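import Groth.Agent.L16.Connected.AppIso
import Groth.Agent.L21.Curve.BirationalOpen
import Mathlib.AlgebraicGeometry.ZariskisMainTheorem
import Mathlib.RingTheory.DedekindDomain.Dvr

/-!
Zariski's main theorem for proper maps with trivial direct image, and centres over valuation rings.
-/

set_option autoImplicit false
set_option linter.style.haveILetI false
set_option linter.unusedSectionVars false
set_option backward.isDefEq.respectTransparency false

universe u

open CategoryTheory CategoryTheory.Limits AlgebraicGeometry TopologicalSpace Opposite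

noncomputable section

namespace Groth.L16.Connected

variable {X Y : Scheme.{u}} (f : X ⟶ Y)

theorem isIso_restrict_of_isFinite (hO : ∀ U : Y.Opens, IsIso (f.app U)) (V : Y.Opens) [IsFinite (f ∣_ V)] :
    IsIso (f ∣_ V) := by
  let g := f ∣_ V
  show MorphismProperty.isomorphisms Scheme g
  rw [HasAffineProperty.eq_targetAffineLocally (MorphismProperty.isomorphisms Scheme)]
  intro W
  refine ⟨(W.2.preimage g : IsAffineOpen (g ⁻¹ᵁ W.1)), ?_⟩
  haveI : IsIso (g.app (W.1.ι ''ᵁ ⊤)) := by
    haveI := hO (V.ι ''ᵁ (W.1.ι ''ᵁ ⊤))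
    rw [morphismRestrict_app]
    infer_instance
  rw [morphismRestrict_appTop]
  infer_instance

/-- The points with finite fibre form an open set over which such a map is an isomorphism. -/
theorem exists_isIso_restrict_finite_fibres [IsProper f] (hO : ∀ U : Y.Opens, IsIso (f.app U)) :
    ∃ V : Y.Opens, (∀ y, y ∈ V ↔ (f ⁻¹' {y}).Finite) ∧ IsIso (f ∣_ V) := by
  have key : ∀ y, (f ⁻¹' {y}).Finite → ∃ V : Y.Opens, y ∈ V ∧ ∀ z ∈ V, (f ⁻¹' {z}).Finite := by
    intro y hy
    obtain ⟨V, hyV, hV⟩ := exists_isFinite_morphismRestrict_of_finite_preimage_singleton f y hy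
    refine ⟨V, hyV, fun z hz => ?_⟩
    haveI := hV
    have h1 := ((f ∣_ V).finite_preimage_singleton ⟨z, hz⟩).image (f ⁻¹ᵁ V).ι
    refine h1.subset fun x (hx : f x = z) => ?_
    have hxV : x ∈ f ⁻¹ᵁ V := by show f x ∈ V; rw [hx]; exact hz
    refine ⟨⟨x, hxV⟩, ?_, rfl⟩
    show (f ∣_ V) ⟨x, hxV⟩ = ⟨z, hz⟩
    apply V.ι.isOpenEmbedding.injective
    rw [← Scheme.Hom.comp_apply, morphismRestrict_ι, Scheme.Hom.comp_apply]
    exact hx
  let V : Y.Opens := ⟨{y | (f ⁻¹' {y}).Finite}, isOpen_iff_forall_mem_open.2 fun y hy => by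
    obtain ⟨V, hyV, hV⟩ := key y hy
    exact ⟨V, hV, V.2, hyV⟩⟩
  refine ⟨V, fun y => Iff.rfl, ?_⟩
  haveI : IsProper (f ∣_ V) := MorphismProperty.of_isPullback (isPullback_morphismRestrict f V).flip ‹IsProper f›
  haveI : LocallyQuasiFinite (f ∣_ V) := by
    refine locallyQuasiFinite_iff_finite_preimage_singleton.2 fun z => ?_
    refine ((show (f ⁻¹' {V.ι z}).Finite from z.2).preimage (f ⁻¹ᵁ V).ι.isOpenEmbedding.injective.injOn).subset
      fun x (hx : (f ∣_ V) x = z) => ?_
    show f ((f ⁻¹ᵁ V).ι x) = V.ι z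
    rw [← hx, ← Scheme.Hom.comp_apply, ← morphismRestrict_ι]
    rfl
  haveI : IsFinite (f ∣_ V) := IsFinite.of_isProper_of_locallyQuasiFinite _
  exact isIso_restrict_of_isFinite f hO V

/-- An isolated point of a connected fibre is the whole fibre. -/
theorem finite_preimage_of_isolated [LocallyOfFiniteType f] (y : Y) [ConnectedSpace ↥(f.fiber y)]
    (x : ↥(f.fiber y)) (hx : IsOpen ({x} : Set ↥(f.fiber y))) : (f ⁻¹' {y}).Finite := by
  haveI : LocallyOfFiniteType (f.fiberToSpecResidueField y) := MorphismProperty.pullback_snd _ _ ‹_›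
  haveI : JacobsonSpace ↥(f.fiber y) := LocallyOfFiniteType.jacobsonSpace (f.fiberToSpecResidueField y)
  have hcl : IsClosed ({x} : Set ↥(f.fiber y)) := isClosed_singleton_of_isLocallyClosed_singleton hx.isLocallyClosed
  have huniv : ({x} : Set ↥(f.fiber y)) = Set.univ := (IsClopen.eq_univ ⟨hcl, hx⟩ (Set.singleton_nonempty x))
  rw [← f.range_fiberι, ← Set.image_univ, ← huniv]
  exact (Set.finite_singleton x).image _

/-- Normal noetherian local domains of dimension at most one are valuation rings. -/
theorem valuationRing_of_dim_le_one {R : Type u} [CommRing R] [IsDomain R] [IsLocalRing R] [IsNoetherianRing R]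
    [IsIntegrallyClosed R] (h : ringKrullDim R ≤ 1) : ValuationRing R := by
  haveI : Ring.KrullDimLE 1 R := Ring.krullDimLE_iff.2 h
  by_cases hf : IsField R
  · letI := hf.toField
    exact ValuationRing.of_field R
  haveI : IsDedekindDomain R := { maximalOfPrime := fun hne hp => haveI := hp; Ideal.isMaximal_of_isPrime_of_ne_bot _ hne }
  haveI := (IsDiscreteValuationRing.TFAE R hf).out 2 0 |>.1 ‹IsDedekindDomain R›
  infer_instance

variable [IsIntegral X] [IsIntegral Y] (e : f (genericPoint X) = genericPoint Y)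
  (hbij : Function.Bijective (Groth.L21.Curve.ffMap f e))
include hbij

/-- A birational separated morphism has at most one point over a point with valuation ring. -/
theorem eq_of_valuationRing [IsSeparated f] (x x' : X) (hxx : f x' = f x) [ValuationRing (Y.presheaf.stalk (f x))] :
    x' = x := by
  haveI : ValuationRing (Y.presheaf.stalk (f x')) := by rw [hxx]; infer_instance
  let O := Y.presheaf.stalk (f x)
  let β : O ⟶ X.presheaf.stalk x := f.stalkMap x
  let β' : O ⟶ X.presheaf.stalk x' := (Y.presheaf.stalkCongr (.of_eq hxx.symm)).hom ≫ f.stalkMap x'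
  haveI : IsIso β := (ConcreteCategory.isIso_iff_bijective β).2 (Groth.L21.Curve.bijective_stalkMap f e hbij x)
  haveI : IsIso (f.stalkMap x') :=
    (ConcreteCategory.isIso_iff_bijective _).2 (Groth.L21.Curve.bijective_stalkMap f e hbij x')
  haveI : IsIso β' := inferInstance
  let a : Spec O ⟶ X := Spec.map (inv β) ≫ X.fromSpecStalk x
  let a' : Spec O ⟶ X := Spec.map (inv β') ≫ X.fromSpecStalk x'
  let hη : genericPoint X ⤳ x := genericPoint_specializes x
  let hη' : genericPoint X ⤳ x' := genericPoint_specializes x'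
  let j : Spec (X.presheaf.stalk (genericPoint X)) ⟶ Spec O := Spec.map (β ≫ X.presheaf.stalkSpecializes hη)
  have hβ : β' ≫ X.presheaf.stalkSpecializes hη' = β ≫ X.presheaf.stalkSpecializes hη := by
    simp only [β, β', Category.assoc, ← Scheme.Hom.stalkSpecializes_stalkMap, TopCat.Presheaf.stalkCongr_hom,
      TopCat.Presheaf.stalkSpecializes_comp_assoc]
  have hover : a ≫ f = a' ≫ f := by
    have h1 : a ≫ f = Y.fromSpecStalk (f x) := by
      rw [Category.assoc, ← Scheme.SpecMap_stalkMap_fromSpecStalk, ← Spec.map_comp_assoc, IsIso.hom_inv_id]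
      exact (congrArg (· ≫ Y.fromSpecStalk (f x)) (Spec.map_id _)).trans (Category.id_comp _)
    have h2 : a' ≫ f = Y.fromSpecStalk (f x) := by
      rw [Category.assoc, ← Scheme.SpecMap_stalkMap_fromSpecStalk, ← Spec.map_comp_assoc,
        ← Scheme.SpecMap_stalkSpecializes_fromSpecStalk (specializes_of_eq hxx.symm : f x ⤳ f x')]
      congr 2
      rw [← cancel_epi (Y.presheaf.stalkCongr (.of_eq hxx.symm)).hom, ← Category.assoc, IsIso.hom_inv_id]
      exact ((Y.presheaf.stalkCongr (.of_eq hxx.symm)).hom_inv_id).symm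
    rw [h1, h2]
  haveI : IsDominant j := ⟨by
    show DenseRange (PrimeSpectrum.comap (β ≫ X.presheaf.stalkSpecializes hη).hom)
    refine (PrimeSpectrum.denseRange_comap_iff_ker_le_nilRadical _).2 ?_
    have hinj : Function.Injective (β ≫ X.presheaf.stalkSpecializes hη).hom := by
      rw [CommRingCat.hom_comp, RingHom.coe_comp]
      exact (IsFractionRing.injective (X.presheaf.stalk x) X.functionField).comp
        (Groth.L21.Curve.bijective_stalkMap f e hbij x).1
    rw [(RingHom.injective_iff_ker_eq_bot _).1 hinj]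
    exact bot_le⟩
  have hj : j ≫ a = j ≫ a' := by
    simp only [j, a, a', ← Spec.map_comp_assoc]
    rw [IsIso.inv_hom_id_assoc, ← hβ, IsIso.inv_hom_id_assoc, Scheme.SpecMap_stalkSpecializes_fromSpecStalk,
      Scheme.SpecMap_stalkSpecializes_fromSpecStalk]
  have hcl : ∀ {A B : CommRingCat.{u}} [IsLocalRing A] [IsLocalRing B] (φ : A ⟶ B) [IsIso φ],
      Spec.map φ (IsLocalRing.closedPoint B) = IsLocalRing.closedPoint A := by
    intro A B _ _ φ _
    haveI : IsLocalHom φ.hom := isLocalHom_of_isIso φ
    exact IsLocalRing.comap_closedPoint φ.hom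
  have := congrArg (fun t : Spec O ⟶ X => t (IsLocalRing.closedPoint O)) (ext_of_isDominant_of_isSeparated f hover j hj)
  simp only [a, a', Scheme.Hom.comp_apply, hcl, Scheme.fromSpecStalk_closedPoint] at this
  exact this.symm

end Groth.L16.Connected
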