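import Groth.Agent.L16.Connected.FunctionsBC
import Groth.Agent.L17.BC.ClassesPull
import Groth.Agent.L16.HomSh.Basic
import Groth.Agent.S8533
import Groth.Agent.S0537
import Groth.Agent.L05.Henselization.StrictUniq
import Groth.Agent.L22.GeomConn.Irred
import Groth.Agent.L07.Count.GeomConn
import Mathlib.AlgebraicGeometry.Geometrically.Connected

/-!
Zariski's connectedness theorem over an arbitrary base: fibres of a proper morphism with `O_Y = f_*O_X` are
geometrically connected.
-/

set_option autoImplicit false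
set_option linter.style.haveILetI false
set_option backward.isDefEq.respectTransparency false

universe u

open CategoryTheory CategoryTheory.Limits AlgebraicGeometry TopologicalSpace Opposite

noncomputable section

namespace Groth.L16.Connected

open AffineBC (scal)
open Groth.L17.BC (fV fV_fromSpec)

/-- A scheme whose ring of functions is local is connected. -/
theorem connectedSpace_of_isLocalRing {X : Scheme.{u}} [IsLocalRing Γ(X, ⊤)] : ConnectedSpace X := by
  have hne : Nonempty X := by
    by_contra h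
    haveI := not_nonempty_iff.1 h
    exact not_subsingleton Γ(X, ⊤) inferInstance
  refine connectedSpace_iff_clopen.mpr ⟨hne, fun U hU => ?_⟩
  let U₁ : X.Opens := ⟨U, hU.2⟩
  let U₂ : X.Opens := ⟨Uᶜ, hU.1.isOpen_compl⟩
  let W : ULift.{u} Bool → X.Opens := fun b => cond b.down U₁ U₂
  let O := Coh.structureModule X
  let s : ∀ b, Γ(O, W b) := fun b =>
    match b with
    | ⟨true⟩ => (show Γ(O, W (ULift.up.{u} true)) from (1 : Γ(X, U₁)))
    | ⟨false⟩ => (show Γ(O, W (ULift.up.{u} false)) from (0 : Γ(X, U₂)))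
  have h12 : U₁ ⊓ U₂ = ⊥ := Opens.ext (Set.inter_compl_self U)
  have h21 : U₂ ⊓ U₁ = ⊥ := Opens.ext (Set.compl_inter_self U)
  haveI : Subsingleton Γ(X, U₁ ⊓ U₂) := by rw [h12]; infer_instance
  haveI : Subsingleton Γ(X, U₂ ⊓ U₁) := by rw [h21]; infer_instance
  obtain ⟨e, he⟩ := Groth.L16.HomSh.exists_glue O W (fun b => (le_top : W b ≤ ⊤))
    (fun x _ => (em (x ∈ U)).elim (fun h => Opens.mem_iSup.2 ⟨⟨true⟩, h⟩) fun h => Opens.mem_iSup.2 ⟨⟨false⟩, h⟩) s
    (fun i j => by
      obtain ⟨i⟩ := i
      obtain ⟨j⟩ := j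
      cases i <;> cases j
      · rfl
      · exact Subsingleton.elim (α := Γ(X, U₂ ⊓ U₁)) _ _
      · exact Subsingleton.elim (α := Γ(X, U₁ ⊓ U₂)) _ _
      · rfl)
  let e' : Γ(X, ⊤) := e
  have e1 : X.presheaf.map (homOfLE (le_top : U₁ ≤ ⊤)).op e' = 1 := he (ULift.up.{u} true)
  have e2 : X.presheaf.map (homOfLE (le_top : U₂ ≤ ⊤)).op e' = 0 := he (ULift.up.{u} false)
  rcases IsLocalRing.isUnit_or_isUnit_one_sub_self e' with h | h
  · refine Or.inr (Set.eq_univ_of_forall fun x => ?_)
    by_contra hx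
    have h' := (h.map (X.presheaf.map (homOfLE (le_top : U₂ ≤ ⊤)).op).hom).map (X.presheaf.germ U₂ x hx).hom
    erw [e2, map_zero] at h'
    exact not_isUnit_zero h'
  · refine Or.inl (Set.eq_empty_of_forall_notMem fun x hx => ?_)
    have h' := (h.map (X.presheaf.map (homOfLE (le_top : U₁ ≤ ⊤)).op).hom).map (X.presheaf.germ U₁ x hx).hom
    erw [map_sub, map_one, e1, sub_self, map_zero] at h'
    exact not_isUnit_zero h'

/-- Over a henselian local ring, the closed fibre of a proper scheme with functions from the base is connected. -/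
theorem connectedSpace_closedFibre {A : Type u} [CommRing A] [HenselianLocalRing A] {X : Scheme.{u}}
    [X.Over (Spec (CommRingCat.of A))] [IsProper (X ↘ Spec (CommRingCat.of A))]
    (h : Function.Bijective (scal A X ⊤)) :
    ConnectedSpace ↥((X ↘ Spec (CommRingCat.of A)).fiber (IsLocalRing.closedPoint A)) := by
  haveI : IsLocalRing Γ(X, ⊤) := (RingEquiv.ofBijective _ h).isLocalRing
  haveI : ConnectedSpace X := connectedSpace_of_isLocalRing
  exact Groth.L07.Count.nConn_eq_one_iff.1 ((ENat.card_congr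
    (Equiv.ofBijective _ (Groth.Agent.S8533.result A (X ↘ Spec (CommRingCat.of A))))).trans
      (Groth.L07.Count.nConn_eq_one_iff.2 ‹ConnectedSpace X›))

variable {X Y : Scheme.{u}} (f : X ⟶ Y) [IsProper f]

set_option linter.unusedSectionVars false

theorem bijective_scal_fV (hf : ∀ U : Y.Opens, IsIso (f.app U)) {V : Y.Opens} (hV : IsAffineOpen V) :
    letI : (↑(f ⁻¹ᵁ V) : Scheme.{u}).Over (Spec (CommRingCat.of Γ(Y, V))) := ⟨fV f hV⟩
    Function.Bijective (scal Γ(Y, V) (↑(f ⁻¹ᵁ V) : Scheme.{u}) ⊤) := by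
  letI : (↑(f ⁻¹ᵁ V) : Scheme.{u}).Over (Spec (CommRingCat.of Γ(Y, V))) := ⟨fV f hV⟩
  let XV : Scheme.{u} := ↑(f ⁻¹ᵁ V)
  haveI : IsIso (f ∣_ V).appTop := by
    rw [Scheme.Hom.appTop, morphismRestrict_app]
    exact IsIso.comp_isIso' (hf (V.ι ''ᵁ ⊤)) inferInstance
  have hb : Function.Bijective (Coh.toGlobal (fV f hV)) := by
    rw [Coh.toGlobal, fV, Scheme.Hom.comp_appTop]
    exact ((ConcreteCategory.bijective_of_isIso (f ∣_ V).appTop).comp
      (ConcreteCategory.bijective_of_isIso hV.isoSpec.hom.appTop)).comp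
        (ConcreteCategory.bijective_of_isIso (Scheme.ΓSpecIso Γ(Y, V)).inv)
  have e : XV.presheaf.map (homOfLE (le_top : (⊤ : XV.Opens) ≤ ⊤)).op = 𝟙 _ := by
    rw [show (homOfLE (le_top : (⊤ : XV.Opens) ≤ ⊤)).op = 𝟙 (op (⊤ : XV.Opens)) from Subsingleton.elim _ _]
    exact XV.presheaf.map_id _
  have h1 : Function.Bijective (XV.presheaf.map (homOfLE (le_top : (⊤ : XV.Opens) ≤ ⊤)).op) := by
    rw [e]; exact ConcreteCategory.bijective_of_isIso (𝟙 Γ(XV, ⊤))
  exact h1.comp hb

theorem geometricallyConnected_fiber (hf : ∀ U : Y.Opens, IsIso (f.app U)) (y : Y) :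
    GeometricallyConnected (f.fiberToSpecResidueField y) := by
  obtain ⟨V, hV, hy⟩ : ∃ V : Y.Opens, IsAffineOpen V ∧ y ∈ V := by
    obtain ⟨_, ⟨V, hV, rfl⟩, hy, -⟩ :=
      Y.isBasis_affineOpens.exists_subset_of_mem_open (Set.mem_univ y) isOpen_univ
    exact ⟨V, hV, hy⟩
  let O := Y.presheaf.stalk y
  letI : Algebra Γ(Y, V) O := Y.presheaf.algebra_section_stalk ⟨y, hy⟩
  haveI := hV.isLocalization_stalk ⟨y, hy⟩
  haveI : Module.Flat Γ(Y, V) O :=
    IsLocalization.flat O (hV.primeIdealOf ⟨y, hy⟩).asIdeal.primeCompl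
  let XV : Scheme.{u} := ↑(f ⁻¹ᵁ V)
  letI : XV.Over (Spec (CommRingCat.of Γ(Y, V))) := ⟨fV f hV⟩
  haveI : IsProper (XV ↘ Spec (CommRingCat.of Γ(Y, V))) := inferInstanceAs (IsProper (fV f hV))
  have hΓ : Function.Bijective (scal Γ(Y, V) XV ⊤) := bijective_scal_fV f hf hV
  obtain ⟨B, _, _, _, _, hB⟩ := Groth.Agent.S0537.result O
  haveI := hB
  haveI := hB.henselian
  haveI : Module.Flat O B := Groth.L05.Henselization.flat_of_isStrictHenselization O B
  letI : Algebra Γ(Y, V) B := ((algebraMap O B).comp (algebraMap Γ(Y, V) O)).toAlgebra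
  haveI : IsScalarTower Γ(Y, V) O B := IsScalarTower.of_algebraMap_eq fun _ => rfl
  haveI : Module.Flat Γ(Y, V) B := Module.Flat.trans Γ(Y, V) O B
  let b : Spec (CommRingCat.of B) ⟶ Spec (CommRingCat.of Γ(Y, V)) :=
    Spec.map (CommRingCat.ofHom (algebraMap Γ(Y, V) B))
  let XB := pullback (fV f hV) b
  letI : XB.Over (Spec (CommRingCat.of B)) := ⟨pullback.snd (fV f hV) b⟩
  haveI : IsProper (XB ↘ Spec (CommRingCat.of B)) := inferInstanceAs (IsProper (pullback.snd (fV f hV) b))
  have sqB : IsPullback (pullback.fst (fV f hV) b) (XB ↘ Spec (CommRingCat.of B))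
      (XV ↘ Spec (CommRingCat.of Γ(Y, V))) (Spec.map (CommRingCat.ofHom (algebraMap Γ(Y, V) B))) :=
    IsPullback.of_hasPullback (fV f hV) b
  have hΓB : Function.Bijective (scal B XB ⊤) := bijective_scal_of_flat (pullback.fst (fV f hV) b) sqB hΓ
  have hconn := connectedSpace_closedFibre hΓB
  let K := IsLocalRing.ResidueField B
  letI alg : Algebra (Y.residueField y) K := (inferInstance : Algebra (IsLocalRing.ResidueField O) (IsLocalRing.ResidueField B))
  haveI hsc : IsSepClosure (Y.residueField y) K := hB.isSepClosure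
  haveI : IsSepClosed K := hsc.sep_closed
  haveI : Algebra.IsSeparable (Y.residueField y) K := hsc.separable
  let c : Spec (CommRingCat.of K) ⟶ Spec (CommRingCat.of B) := Spec.map (CommRingCat.ofHom (IsLocalRing.residue B))
  have hbc : c ≫ b ≫ hV.fromSpec =
      Spec.map (CommRingCat.ofHom (algebraMap (Y.residueField y) K)) ≫ Y.fromSpecResidueField y := by
    have h1 : CommRingCat.ofHom (algebraMap Γ(Y, V) B) ≫ CommRingCat.ofHom (IsLocalRing.residue B) =
        CommRingCat.ofHom (algebraMap Γ(Y, V) O) ≫ Y.residue y ≫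
          CommRingCat.ofHom (algebraMap (Y.residueField y) K) := rfl
    rw [← Category.assoc, ← Spec.map_comp, h1, Spec.map_comp, Spec.map_comp, Category.assoc, Category.assoc,
      Scheme.fromSpecResidueField]
    congr 2
    exact hV.fromSpecStalk_eq_fromSpecStalk hy
  let s := XB ↘ Spec (CommRingCat.of B)
  haveI : IsClosedImmersion c := IsClosedImmersion.spec_of_surjective _ IsLocalRing.residue_surjective
  have hP : ConnectedSpace ↥(pullback s c) := by
    let p := pullback.fst s c
    let i := s.fiberι (IsLocalRing.closedPoint B)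
    have hr : Set.range p = Set.range i := by
      rw [Scheme.Pullback.range_fst, Scheme.Hom.range_fiberι]
      congr 1
      refine Set.ext fun z => ⟨?_, fun hz => ⟨IsLocalRing.closedPoint K, ?_⟩⟩
      · rintro ⟨w, rfl⟩
        rw [Subsingleton.elim w (IsLocalRing.closedPoint K)]
        exact IsLocalRing.comap_closedPoint (IsLocalRing.residue B)
      · rw [Set.mem_singleton_iff.1 hz]
        exact IsLocalRing.comap_closedPoint (IsLocalRing.residue B)
    haveI := hconn
    rw [connectedSpace_iff_univ]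
    obtain ⟨x, hx⟩ : ∃ x, x ∈ Set.range p := ⟨i (Classical.arbitrary _), hr.ge ⟨_, rfl⟩⟩
    refine ⟨⟨hx.choose, trivial⟩, p.isEmbedding.isInducing.isPreconnected_image.1 ?_⟩
    rw [Set.image_univ, hr, ← Set.image_univ]
    exact isPreconnected_univ.image _ i.continuous.continuousOn
  have sq : IsPullback (pullback.fst s c ≫ pullback.fst (fV f hV) b ≫ (f ⁻¹ᵁ V).ι) (pullback.snd _ c) f
      (Spec.map (CommRingCat.ofHom (algebraMap (Y.residueField y) K)) ≫ Y.fromSpecResidueField y) := by
    rw [← hbc]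
    exact (IsPullback.of_hasPullback s c).paste_horiz
      ((IsPullback.of_hasPullback (fV f hV) b).paste_horiz (Groth.L17.BC.Classes.isPullback_fV f hV))
  have sq' : IsPullback (pullback.fst (f.fiberToSpecResidueField y) _ ≫ f.fiberι y) (pullback.snd _ _) f
      (Spec.map (CommRingCat.ofHom (algebraMap (Y.residueField y) K)) ≫ Y.fromSpecResidueField y) :=
    (IsPullback.of_hasPullback (f.fiberToSpecResidueField y)
      (Spec.map (CommRingCat.ofHom (algebraMap (Y.residueField y) K)))).paste_horiz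
        (IsPullback.of_hasPullback f (Y.fromSpecResidueField y))
  haveI : ConnectedSpace ↥(FBase.bc (k := Y.residueField y) (f.fiberToSpecResidueField y) K) := by
    haveI := hP
    exact (sq.isoIsPullback _ _ sq').hom.homeomorph.surjective.connectedSpace
      (sq.isoIsPullback _ _ sq').hom.homeomorph.continuous
  exact Groth.L22.GeomConn.geometricallyConnected_of_sepClosed (k := Y.residueField y)
    (f.fiberToSpecResidueField y) K

/-- **Zariski's connectedness theorem.** -/
theorem geometricallyConnected (hf : ∀ U : Y.Opens, IsIso (f.app U)) : GeometricallyConnected f :=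
  (GeometricallyConnected.iff_geometricallyConnected_fiber f).2 (geometricallyConnected_fiber f hf)

end Groth.L16.Connected
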