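import Groth.Agent.L16.Connected.Stein
import Groth.Agent.L16.BirationalNormal
import Groth.Agent.L17.PushIsoBasis

/-!
Direct images of structure sheaves which are the structure sheaf near a point, and normal bases.
-/

set_option autoImplicit false
set_option linter.style.haveILetI false
set_option linter.unusedSectionVars false
set_option backward.isDefEq.respectTransparency false

universe u

open CategoryTheory CategoryTheory.Limits AlgebraicGeometry TopologicalSpace Opposite

noncomputable section

namespace Groth.L16.Connected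

variable {X Y : Scheme.{u}} (f : X ⟶ Y)

/-- Functions on an affine open coming from the base do so on all smaller opens. -/
theorem isIso_app_le [QuasiCompact f] [QuasiSeparated f] {U : Y.Opens} (hU : IsAffineOpen U)
    (h : Function.Bijective (f.app U)) :
    (∀ V : Y.Opens, V ≤ U → IsIso (f.app V)) ∧ ∀ W, IsIso ((f ∣_ U).app W) := by
  haveI : QuasiCompact (f ∣_ U) :=
    MorphismProperty.of_isPullback (isPullback_morphismRestrict f U).flip ‹QuasiCompact f›
  haveI : QuasiSeparated (f ∣_ U) :=
    MorphismProperty.of_isPullback (isPullback_morphismRestrict f U).flip ‹QuasiSeparated f›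
  have hg : ∀ W, IsIso ((f ∣_ U).app W) := by
    refine Groth.L00.SteinNorm.isIso_app_of_cover (f ∣_ U) fun s => ⟨⊤, trivial, ?_, ?_⟩
    · haveI : IsAffine U.toScheme := hU
      exact isAffineOpen_top _
    · rw [morphismRestrict_app]
      refine IsIso.comp_isIso' ?_ inferInstance
      have : ∀ V', V' = U → IsIso (f.app V') := by
        rintro V' rfl
        exact (ConcreteCategory.isIso_iff_bijective _).2 h
      exact this _ U.ι_image_top
  refine ⟨fun V hV => ?_, hg⟩
  have e : U.ι ''ᵁ (U.ι ⁻¹ᵁ V) = V := by
    rw [Scheme.Hom.image_preimage_eq_opensRange_inf, Scheme.Opens.opensRange_ι, inf_eq_right.2 hV]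
  have h1 := hg (U.ι ⁻¹ᵁ V)
  rw [morphismRestrict_app] at h1
  have h2 : IsIso (f.app (U.ι ''ᵁ (U.ι ⁻¹ᵁ V))) := @IsIso.of_isIso_comp_right _ _ _ _ _ _ _ inferInstance h1
  rwa [e] at h2

/-- The fibres over such an open are geometrically connected. -/
theorem geometricallyConnected_fiber_of_bijective [IsProper f] {U : Y.Opens} (hU : IsAffineOpen U)
    (h : Function.Bijective (f.app U)) {y : Y} (hy : y ∈ U) : GeometricallyConnected (f.fiberToSpecResidueField y) := by
  have hg : GeometricallyConnected (f ∣_ U) := by
    haveI : IsProper (f ∣_ U) := MorphismProperty.of_isPullback (isPullback_morphismRestrict f U).flip ‹IsProper f›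
    exact geometricallyConnected _ (isIso_app_le f hU h).2
  have hr : Set.range (Y.fromSpecResidueField y) ⊆ Set.range U.ι := by
    rw [Scheme.range_fromSpecResidueField, Scheme.Opens.range_ι]
    exact Set.singleton_subset_iff.2 hy
  let σ := IsOpenImmersion.lift U.ι (Y.fromSpecResidueField y) hr
  have hσ : σ ≫ U.ι = Y.fromSpecResidueField y := IsOpenImmersion.lift_fac _ _ _
  have hr' : Set.range (f.fiberι y) ⊆ Set.range (f ⁻¹ᵁ U).ι := by
    rw [Scheme.Hom.range_fiberι, Scheme.Opens.range_ι]
    rintro x hx
    show f x ∈ U
    rw [show f x = y from hx]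
    exact hy
  let l := IsOpenImmersion.lift (f ⁻¹ᵁ U).ι (f.fiberι y) hr'
  have sq : IsPullback l (f.fiberToSpecResidueField y) (f ∣_ U) σ := by
    refine IsPullback.of_right ?_ ?_ (isPullback_morphismRestrict f U).flip
    · rw [IsOpenImmersion.lift_fac, hσ]
      exact IsPullback.of_hasPullback f (Y.fromSpecResidueField y)
    · rw [← cancel_mono U.ι, Category.assoc, morphismRestrict_ι, ← Category.assoc, IsOpenImmersion.lift_fac,
        Category.assoc, hσ]
      exact pullback.condition
  exact MorphismProperty.of_isPullback sq hg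

theorem isIntegral_app [UniversallyClosed f] [QuasiSeparated f] {V : Y.Opens} (hV : IsAffineOpen V) :
    (f.app V).hom.IsIntegral := by
  have hN : IsIso (f.toNormalization.app (f.fromNormalization ⁻¹ᵁ V)) := Groth.L00.SteinNorm.isIso_toNormalization_app f _
  rw [Scheme.Hom.congr_app f.toNormalization_fromNormalization.symm V, Scheme.Hom.comp_app, Category.assoc,
    CommRingCat.hom_comp]
  exact RingHom.IsIntegral.trans _ _ (IsIntegralHom.isIntegral_app f.fromNormalization V hV)
    (RingHom.isIntegral_of_surjective _ (ConcreteCategory.bijective_of_isIso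
      (f.toNormalization.app (f.fromNormalization ⁻¹ᵁ V) ≫ X.presheaf.map (eqToHom _).op)).2)

/-- A proper birational morphism to a normal integral scheme has trivial direct image. -/
theorem isIso_app_of_birational [IsIntegral X] [IsIntegral Y] [IsProper f]
    (e : f (genericPoint X) = genericPoint Y) (hN : ∀ y : Y, IsIntegrallyClosed (Y.presheaf.stalk y))
    (hbij : Function.Bijective (Groth.L21.Curve.ffMap f e)) (U : Y.Opens) : IsIso (f.app U) := by
  rw [ConcreteCategory.isIso_iff_bijective]
  refine Groth.L17.bijective_app_of_affine f (fun V hV => ?_) U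
  rcases (V : Set Y).eq_empty_or_nonempty with h0 | hne
  · obtain rfl : V = ⊥ := SetLike.coe_injective h0
    haveI : Subsingleton Γ(X, f ⁻¹ᵁ ⊥) := by
      rw [show f ⁻¹ᵁ (⊥ : Y.Opens) = ⊥ from rfl]; infer_instance
    exact ⟨fun a b _ => Subsingleton.elim a b, fun s => ⟨0, Subsingleton.elim _ _⟩⟩
  · refine ⟨fun a b hab => ?_, fun s => BirNormal.exists_app_eq f e hN hbij hne s (isIntegral_app f hV s)⟩
    have h2 := BirNormal.mem_preimage f e hne
    have h1 : genericPoint Y ∈ V := e ▸ h2
    refine germ_injective_of_isIntegral Y (genericPoint Y) h1 (hbij.1 ?_)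
    rw [← BirNormal.germ_app f e h1 h2, ← BirNormal.germ_app f e h1 h2, hab]

end Groth.L16.Connected
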