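import Groth.Agent.L16.Connected.Fibre
import Groth.Agent.L00.SteinNorm
import Groth.Prelude.Def_ega3
import Mathlib.AlgebraicGeometry.Morphisms.QuasiFinite
import Mathlib.Topology.NoetherianSpace
import Mathlib.RingTheory.Ideal.GoingUp

/-!
The Stein factorisation separates the connected components of the (geometric) fibres.
-/

set_option autoImplicit false
set_option linter.style.haveILetI false
set_option linter.unusedSectionVars false
set_option backward.isDefEq.respectTransparency false

universe u v

open CategoryTheory CategoryTheory.Limits AlgebraicGeometry TopologicalSpace Opposite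

noncomputable section

namespace Groth.L16.Connected

/-- A T1 quasi-sober image of a Noetherian space is finite and discrete. -/
theorem finite_of_noetherian_image {Z : Type u} {T : Type v} [TopologicalSpace Z] [TopologicalSpace T]
    [NoetherianSpace Z] [T1Space T] [QuasiSober T] {μ : Z → T} (hc : Continuous μ) (hs : Function.Surjective μ) :
    Finite T := by
  haveI : NoetherianSpace T := noetherianSpace_of_surjective μ hc hs
  rw [← Set.finite_univ_iff]
  refine ((Set.Finite.biUnion (t := fun C => C) (NoetherianSpace.finite_irreducibleComponents (α := T)) fun C hC => ?_).subset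
    fun t _ => Set.mem_iUnion₂.2 ⟨_, irreducibleComponent_mem_irreducibleComponents t, mem_irreducibleComponent (x := t)⟩ :
    (Set.univ : Set T).Finite)
  obtain ⟨t, ht⟩ := QuasiSober.sober hC.1 (isClosed_of_mem_irreducibleComponents C hC)
  rw [IsGenericPoint, closure_singleton] at ht
  rw [← ht]
  exact Set.finite_singleton t

/-- Fibres of a continuous map to a discrete space with preconnected fibres are the components. -/
theorem eq_iff_connectedComponent_eq {Z : Type u} {T : Type v} [TopologicalSpace Z] [TopologicalSpace T]
    [DiscreteTopology T] {μ : Z → T} (hc : Continuous μ) (hfib : ∀ t, _root_.IsPreconnected (μ ⁻¹' {t})) (x x' : Z) :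
    μ x = μ x' ↔ connectedComponent x = connectedComponent x' := by
  refine ⟨fun h => connectedComponent_eq ((hfib (μ x)).subset_connectedComponent (rfl : μ x ∈ ({μ x} : Set T))
    (h.symm : μ x' ∈ ({μ x} : Set T))), fun h => ?_⟩
  have : μ x' ∈ μ '' connectedComponent x := ⟨x', h ▸ mem_connectedComponent, rfl⟩
  exact (subsingleton_of_preconnected_of_discrete (isPreconnected_connectedComponent.image μ hc.continuousOn)
    ⟨x, mem_connectedComponent, rfl⟩ this)
where
  subsingleton_of_preconnected_of_discrete {T : Type v} [TopologicalSpace T] [DiscreteTopology T] {s : Set T}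
      (hs : _root_.IsPreconnected s) {a b : T} (ha : a ∈ s) (hb : b ∈ s) : a = b :=
    hs.subsingleton ha hb

/-- Points of a scheme integral over a field are closed. -/
theorem t1Space_of_integral {T : Scheme.{u}} {k : Type u} [Field k] (h : T ⟶ Spec (CommRingCat.of k)) [IsIntegralHom h] :
    T1Space T := by
  haveI : IsAffine T := isAffine_of_isAffineHom h
  let R := Γ(T, ⊤)
  let φ : k →+* R := h.appTop.hom.comp (Scheme.ΓSpecIso (CommRingCat.of k)).inv.hom
  have hφ : φ.IsIntegral := RingHom.IsIntegral.trans _ _
    (RingHom.isIntegral_of_surjective _ (ConcreteCategory.bijective_of_isIso (Scheme.ΓSpecIso (CommRingCat.of k)).inv).2)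
    (IsIntegralHom.isIntegral_app h ⊤ (isAffineOpen_top _))
  letI := φ.toAlgebra
  haveI : Algebra.IsIntegral k R := ⟨hφ⟩
  haveI : T1Space (PrimeSpectrum R) := ⟨fun p => (PrimeSpectrum.isClosed_singleton_iff_isMaximal p).2
    (Ideal.isMaximal_of_isIntegral_of_isMaximal_comap (R := k) p.asIdeal (by
      rw [Ideal.eq_bot_of_prime (p.asIdeal.comap (algebraMap k R))]
      exact Ideal.bot_isMaximal))⟩
  haveI : T1Space ↥(Spec Γ(T, ⊤)) := inferInstanceAs (T1Space (PrimeSpectrum R))
  exact T.isoSpec.hom.homeomorph.symm.t1Space

variable {X S : Scheme.{u}} (f : X ⟶ S) [IsProper f]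

instance isProper_toNormalization : IsProper f.toNormalization := by
  haveI : IsProper (f.toNormalization ≫ f.fromNormalization) := by
    rw [f.toNormalization_fromNormalization]; infer_instance
  exact IsProper.of_comp f.toNormalization f.fromNormalization

theorem geometricallyConnected_toNormalization : GeometricallyConnected f.toNormalization :=
  geometricallyConnected _ (Groth.L00.SteinNorm.isIso_toNormalization_app f)

/-- The base change of the Stein factorisation to a field. -/
theorem stein_bc {K : Type u} [Field K] (σ : Spec (CommRingCat.of K) ⟶ S) {P Q : Scheme.{u}} {p₁ : P ⟶ X}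
    {p₂ : P ⟶ Spec (CommRingCat.of K)} {q₁ : Q ⟶ f.normalization} {q₂ : Q ⟶ Spec (CommRingCat.of K)}
    (hP : IsPullback p₁ p₂ f σ) (hQ : IsPullback q₁ q₂ f.fromNormalization σ) (μ : P ⟶ Q)
    (h₁ : μ ≫ q₁ = p₁ ≫ f.toNormalization) (h₂ : μ ≫ q₂ = p₂) :
    Finite Q ∧ DiscreteTopology Q ∧ Function.Surjective μ ∧
      ∀ x x', μ x = μ x' ↔ connectedComponent x = connectedComponent x' := by
  haveI := geometricallyConnected_toNormalization f
  have sq : IsPullback p₁ μ f.toNormalization q₁ := by
    refine IsPullback.of_bot ?_ h₁.symm hQ
    rw [h₂, f.toNormalization_fromNormalization]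
    exact hP
  haveI : GeometricallyConnected μ := MorphismProperty.of_isPullback sq ‹GeometricallyConnected f.toNormalization›
  haveI : IsIntegralHom q₂ := MorphismProperty.of_isPullback hQ inferInstance
  haveI : IsProper p₂ := MorphismProperty.of_isPullback hP inferInstance
  haveI : IsLocallyNoetherian P := LocallyOfFiniteType.isLocallyNoetherian p₂
  haveI : CompactSpace P := (quasiCompact_iff_compactSpace p₂).mp inferInstance
  haveI : AlgebraicGeometry.IsNoetherian P := {}
  haveI : T1Space Q := t1Space_of_integral q₂
  haveI : Finite Q := finite_of_noetherian_image μ.continuous μ.surjective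
  exact ⟨inferInstance, inferInstance, μ.surjective, eq_iff_connectedComponent_eq μ.continuous
    fun t => (μ.isConnected_preimage_singleton t).isPreconnected⟩

/-- The fibres. -/
theorem stein_fibre (y : S) :
    Finite ↥(f.fromNormalization.fiber y) ∧ DiscreteTopology ↥(f.fromNormalization.fiber y) ∧
      Function.Surjective (CohIII.fiberMapOver f.toNormalization f f.fromNormalization
        f.toNormalization_fromNormalization y) ∧
      ∀ x x', CohIII.fiberMapOver f.toNormalization f f.fromNormalization f.toNormalization_fromNormalization y x =
          CohIII.fiberMapOver f.toNormalization f f.fromNormalization f.toNormalization_fromNormalization y x' ↔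
        connectedComponent x = connectedComponent x' :=
  stein_bc f (S.fromSpecResidueField y) (IsPullback.of_hasPullback f _) (IsPullback.of_hasPullback f.fromNormalization _) _
    (pullback.lift_fst _ _ _) ((pullback.lift_snd _ _ _).trans (Category.comp_id _))

end Groth.L16.Connected
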