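import Mathlib.FieldTheory.SeparableDegree
import Mathlib.FieldTheory.Minpoly.IsIntegrallyClosed
import Mathlib.FieldTheory.IsAlgClosed.Basic
import Mathlib.FieldTheory.IsAlgClosed.AlgebraicClosure
import Mathlib.RingTheory.Spectrum.Maximal.Defs
import Mathlib.RingTheory.LocalRing.MaximalIdeal.Basic
import Mathlib.RingTheory.IntegralClosure.IntegralRestrict

/-!
Maximal ideals of an integral closure of a normal local domain, counted by embeddings.
-/

set_option autoImplicit false
set_option linter.style.haveILetI false

universe u v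

open Polynomial

namespace Groth.L16.Connected

variable (R : Type u) {K E : Type v} [CommRing R] [IsDomain R] [IsLocalRing R] [IsIntegrallyClosed R]
  [Field K] [Field E] [Algebra R K] [IsFractionRing R K] [Algebra K E] [Algebra.IsAlgebraic K E]
  [Algebra R E] [IsScalarTower R K E]

theorem exists_surjective_of_emb [Finite (Field.Emb K E)] :
    ∃ φ : Field.Emb K E → MaximalSpectrum (integralClosure R E), Function.Surjective φ := by
  classical
  let Ω := AlgebraicClosure E
  haveI : IsScalarTower R K Ω := IsScalarTower.of_algebraMap_eq fun r => by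
    rw [IsScalarTower.algebraMap_apply R E Ω, IsScalarTower.algebraMap_apply R K E,
      ← IsScalarTower.algebraMap_apply K E Ω]
  let C := integralClosure R E
  let B := integralClosure R Ω
  haveI : FaithfulSMul R Ω := (faithfulSMul_iff_algebraMap_injective R Ω).2 (by
    rw [IsScalarTower.algebraMap_eq R K Ω]
    exact (algebraMap K Ω).injective.comp (IsFractionRing.injective R K))
  haveI : FaithfulSMul R E := (faithfulSMul_iff_algebraMap_injective R E).2 (by
    rw [IsScalarTower.algebraMap_eq R K E]
    exact (algebraMap K E).injective.comp (IsFractionRing.injective R K))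
  obtain ⟨M, hM⟩ := Ideal.exists_maximal B
  have hMm : M.comap (algebraMap R B) = IsLocalRing.maximalIdeal R :=
    IsLocalRing.eq_maximalIdeal (Ideal.isMaximal_comap_of_isIntegral_of_isMaximal (R := R) M)
  let res : Field.Emb K E → (C →ₐ[R] B) := fun σ =>
    ((σ.restrictScalars R).comp C.val).codRestrict B fun c => c.2.map (σ.restrictScalars R)
  have hmax : ∀ σ, (M.comap (res σ)).IsMaximal := fun σ => by
    apply Ideal.isMaximal_of_isIntegral_of_isMaximal_comap (R := R)
    show ((M.comap (res σ).toRingHom).comap (algebraMap R C)).IsMaximal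
    rw [Ideal.comap_comap,
      show (res σ).toRingHom.comp (algebraMap R C) = algebraMap R B from RingHom.ext (res σ).commutes, hMm]
    exact IsLocalRing.maximalIdeal.isMaximal R
  refine ⟨fun σ => ⟨M.comap (res σ), hmax σ⟩, fun Q => ?_⟩
  by_contra hne
  push Not at hne
  haveI := Q.isMaximal
  -- an element of `Q` avoiding all the contractions
  obtain ⟨x, hxQ, hx⟩ : ∃ x ∈ Q.asIdeal, ∀ σ, res σ x ∉ M := by
    by_contra hc
    push Not at hc
    haveI := Fintype.ofFinite (Field.Emb K E)
    have hsub : (Q.asIdeal : Set C) ⊆ ⋃ σ ∈ ((Finset.univ : Finset (Field.Emb K E)) : Set (Field.Emb K E)),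
        ((fun σ => M.comap (res σ)) σ : Set C) := fun z hz => by
      obtain ⟨σ, hσ⟩ := hc z hz
      exact Set.mem_biUnion (Finset.mem_coe.2 (Finset.mem_univ σ)) hσ
    obtain ⟨σ, -, hle⟩ := (Ideal.subset_union_prime (f := fun σ => M.comap (res σ)) default default fun i _ _ _ => (hmax i).isPrime).1 hsub
    exact hne σ (MaximalSpectrum.ext (Q.isMaximal.eq_of_le (hmax σ).ne_top hle).symm)
  let P := minpoly R x.1
  have hxi : IsIntegral R x.1 := x.2
  have hP : minpoly K x.1 = P.map (algebraMap R K) := minpoly.isIntegrallyClosed_eq_field_fractions' K hxi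
  have hc : P.coeff 0 ∈ IsLocalRing.maximalIdeal R := by
    have h1 : aeval x P = 0 := Subtype.val_injective (by
      show C.val (aeval x P) = C.val 0
      rw [← aeval_algHom_apply, map_zero]; exact minpoly.aeval R x.1)
    rw [← IsLocalRing.eq_maximalIdeal (Ideal.isMaximal_comap_of_isIntegral_of_isMaximal (R := R) Q.asIdeal),
      Ideal.mem_comap]
    have h2 := congrArg (Polynomial.aeval x) P.X_mul_divX_add
    rw [map_add, map_mul, aeval_X, aeval_C, h1] at h2
    rw [eq_neg_of_add_eq_zero_right h2]
    exact Q.asIdeal.neg_mem (Q.asIdeal.mul_mem_right _ hxQ)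
  have hroot : ∀ r ∈ (P.map (algebraMap R Ω)).roots, ∃ σ : Field.Emb K E, σ x.1 = r := by
    intro r hr
    have hr' : r ∈ (minpoly K x.1).rootSet Ω := by
      rw [Polynomial.mem_rootSet, hP]
      refine ⟨(Polynomial.map_ne_zero_iff (IsFractionRing.injective R K)).2 (minpoly.monic hxi).ne_zero, ?_⟩
      rw [Polynomial.aeval_map_algebraMap, Polynomial.aeval_def, ← Polynomial.eval_map]
      exact (Polynomial.mem_roots'.1 hr).2
    rw [← Algebra.IsAlgebraic.range_eval_eq_rootSet_minpoly] at hr'
    exact hr'
  choose τ hτ using hroot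
  let s : Multiset B := (P.map (algebraMap R Ω)).roots.attach.map fun r => res (τ r.1 r.2) x
  have hs : B.val s.prod = (P.map (algebraMap R Ω)).roots.prod := by
    rw [map_multiset_prod, Multiset.map_map]
    congr 1
    exact (Multiset.map_congr rfl fun r _ => hτ r.1 r.2).trans (Multiset.attach_map_val _)
  have hmem : s.prod ∈ M := by
    have h1 : algebraMap R B (P.coeff 0) ∈ M := by rw [← Ideal.mem_comap, hMm]; exact hc
    have h2 := (IsAlgClosed.splits (P.map (algebraMap R Ω))).coeff_zero_eq_prod_roots_of_monic
      ((minpoly.monic hxi).map _)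
    rw [Polynomial.coeff_map, ← hs] at h2
    have h3 : algebraMap R B (P.coeff 0) = (-1) ^ (P.map (algebraMap R Ω)).natDegree * s.prod :=
      Subtype.ext (by simpa using h2)
    rw [h3] at h1
    exact (hM.isPrime.mem_or_mem h1).resolve_left fun h => hM.ne_top (Ideal.eq_top_of_isUnit_mem _ h
      (isUnit_one.neg.pow _))
  obtain ⟨b, hb, hbM⟩ := (hM.isPrime.multiset_prod_mem_iff_exists_mem s).1 hmem
  obtain ⟨r, -, rfl⟩ := Multiset.mem_map.1 hb
  exact hx _ hbM

end Groth.L16.Connected
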