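import Groth.Agent.L22.GeomConn.Finite
import Groth.Agent.L22.GeomConn.Irred

/-!
Geometric connectedness is detected by finite separable extensions, without any finiteness hypothesis.
-/

set_option autoImplicit false
universe u
open CategoryTheory AlgebraicGeometry

namespace Groth.L16.Connected

theorem geometricallyConnected_of_forall_finite_separable {k : Type u} [Field k] {X : Scheme.{u}}
    (f : X ⟶ Spec (CommRingCat.of k))
    (h : ∀ (K : Type u) [Field K] [Algebra k K] [Module.Finite k K] [Algebra.IsSeparable k K],
      ConnectedSpace ↑(Limits.pullback f (Spec.map (CommRingCat.ofHom (algebraMap k K))))) :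
    GeometricallyConnected f := by
  let K₀ := SeparableClosure k
  have hlev : ∀ L : {L : IntermediateField k K₀ // FiniteDimensional k L}, ConnectedSpace ↥(FBase.bc f L.1) := fun L => by
    haveI := L.2
    haveI : Algebra.IsSeparable k L.1 := Algebra.isSeparable_tower_bot_of_isSeparable k L.1 K₀
    exact h L.1
  haveI : ConnectedSpace ↥(FBase.bc f K₀) := Groth.L22.GeomConn.Sys.connectedSpace (Groth.L22.GeomConn.sys f K₀) hlev
  exact Groth.L22.GeomConn.geometricallyConnected_of_sepClosed f K₀

end Groth.L16.Connected
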