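import Groth.Agent.L16.Exist.FormalSect
import Groth.Agent.L16.Rees.StalkFF
import Groth.Agent.L29.LocFree
import Groth.Agent.L19.ConormalAffine

/-!
If the functions of a separated scheme are those of the affine base, this persists after flat base change.
-/

set_option autoImplicit false
set_option linter.style.haveILetI false
set_option backward.isDefEq.respectTransparency false

universe u

open CategoryTheory CategoryTheory.Limits AlgebraicGeometry TopologicalSpace Opposite
open scoped TensorProduct

noncomputable section

namespace Groth.L16.Connected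

open AffineBC (scal)
open HomSh (h0Equiv)

/-- An algebra which is free of rank one as a module is trivial. -/
theorem bijective_of_linearEquiv {B R : Type*} [CommRing B] [CommRing R] (φ : B →+* R) (e : B ≃+ R)
    (he : ∀ b x, e (b * x) = φ b * e x) : Function.Bijective φ := by
  obtain ⟨b, hb⟩ := e.surjective 1
  obtain ⟨c, hc⟩ := e.surjective (e 1 * e 1)
  have h1 : ∀ b, e b = φ b * e 1 := fun b => by rw [← he, mul_one]
  have hg : φ (b * c) * e 1 = e 1 := by
    calc φ (b * c) * e 1 = φ b * e c := by rw [map_mul, mul_assoc, ← h1]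
      _ = (φ b * e 1) * e 1 := by rw [hc, mul_assoc]
      _ = e 1 := by rw [← h1, hb, one_mul]
  have hbc : b * c = 1 := e.injective (by rw [h1, hg])
  have hu : φ b * e 1 = 1 := by rw [← h1, hb]
  refine ⟨fun x y h => e.injective (by rw [h1, h1 y, h]), fun r => ?_⟩
  obtain ⟨x, rfl⟩ := e.surjective r
  refine ⟨x * c, ?_⟩
  have he1 : e 1 = φ c := by
    calc e 1 = (φ b * φ c) * e 1 := by rw [← map_mul, hbc, φ.map_one, one_mul]
      _ = (φ b * e 1) * φ c := by ring
      _ = φ c := by rw [hu, one_mul]
  rw [map_mul, ← he1, ← h1]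

/-- Functions from the base persist under flat base change. -/
theorem bijective_scal_of_flat {A B : Type u} [CommRing A] [CommRing B] [Algebra A B] [Module.Flat A B]
    {X X' : Scheme.{u}} [X.Over (Spec (CommRingCat.of A))] [X'.Over (Spec (CommRingCat.of B))]
    [IsSeparated (X ↘ Spec (CommRingCat.of A))] [QuasiCompact (X ↘ Spec (CommRingCat.of A))] (g : X' ⟶ X)
    (sq : IsPullback g (X' ↘ Spec (CommRingCat.of B)) (X ↘ Spec (CommRingCat.of A))
      (Spec.map (CommRingCat.ofHom (algebraMap A B))))
    (h : Function.Bijective (scal A X ⊤)) : Function.Bijective (scal B X' ⊤) := by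
  let f := X ↘ Spec (CommRingCat.of A)
  let f' := X' ↘ Spec (CommRingCat.of B)
  letI : Module A (Coh.HH X (Coh.structureModule X) 0) := Module.compHom _ (Coh.toGlobal f)
  letI : Module B (Coh.HH X' ((Scheme.Modules.pullback g).obj (Coh.structureModule X)) 0) :=
    Module.compHom _ (Coh.toGlobal f')
  haveI := Groth.L19.Conormal.isQCoh_structureModule X
  obtain ⟨Φ⟩ := Rees.exists_flat_bc_equiv f f' g sq (Coh.structureModule X) 0
  have hsmul : ∀ (a : A) (x : Coh.HH X (Coh.structureModule X) 0),
      h0Equiv _ (a • x) = scal A X ⊤ a • h0Equiv _ x := fun a x => Exist.h0Equiv_smul a x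
  let ε : A ≃ₗ[A] Coh.HH X (Coh.structureModule X) 0 :=
    LinearEquiv.ofBijective
      { toFun := fun a => (h0Equiv (Coh.structureModule X)).symm (scal A X ⊤ a)
        map_add' := fun a a' => by rw [map_add]; exact map_add _ _ _
        map_smul' := fun a a' => by
          apply (h0Equiv (Coh.structureModule X)).injective
          rw [RingHom.id_apply, hsmul, AddEquiv.apply_symm_apply, AddEquiv.apply_symm_apply, smul_eq_mul,
            map_mul]
          rfl }
      ((h0Equiv (Coh.structureModule X)).symm.bijective.comp h)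
  let u := Groth.L17.BC.HHequiv (Groth.L29.LocFree.pullbackUnitIso g) 0
  let E : B ≃+ Γ(X', ⊤) :=
    (((TensorProduct.AlgebraTensorModule.rid A B B).symm.trans
      (TensorProduct.AlgebraTensorModule.congr (LinearEquiv.refl B B) ε)).trans Φ).toAddEquiv.trans
      (u.toAddEquiv.trans (show Coh.HH X' (Coh.structureModule X') 0 ≃+ Γ(X', ⊤) from h0Equiv _))
  refine bijective_of_linearEquiv (scal B X' ⊤) E fun b x => ?_
  show h0Equiv (Coh.structureModule X') (u (((TensorProduct.AlgebraTensorModule.rid A B B).symm.trans
      (TensorProduct.AlgebraTensorModule.congr (LinearEquiv.refl B B) ε)).trans Φ (b * x))) = _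
  rw [← smul_eq_mul, LinearEquiv.map_smul]
  erw [u.map_smul (Coh.toGlobal f' b)]
  exact Exist.h0Equiv_smul b _

end Groth.L16.Connected
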