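import Groth.Agent.S7803
import Groth.Agent.L07.DVRProper
import Groth.Agent.L18.KerReduced
import Groth.Agent.L07.Count.Field
import Mathlib.RingTheory.DedekindDomain.Basic

/-!
Geometric connectedness of fibres through discrete valuation rings.
-/

set_option autoImplicit false
set_option linter.style.haveILetI false
set_option linter.unusedSectionVars false
set_option backward.isDefEq.respectTransparency false
set_option backward.isDefEq.respectTransparency.types false

universe u

open CategoryTheory CategoryTheory.Limits AlgebraicGeometry TopologicalSpace Opposite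

noncomputable section

namespace Groth.L16.Connected

/-- Normal local domains are geometrically unibranch. -/
theorem isGeomUnibranch_of_normal {S : Type u} [CommRing S] [IsDomain S] [IsLocalRing S] [IsIntegrallyClosed S] :
    CAlg2.IsGeomUnibranch S :=
  (Groth.L06.Unibranch.isGeomUnibranch_iff (S := S) (N := S) (RingHom.id S) (fun x => RingHom.isIntegralElem_map _)
    (by rw [(RingHom.injective_iff_ker_eq_bot _).1 fun a b hab => hab]; exact bot_le)
    (fun x => ⟨1, x, one_ne_zero, one_mul x⟩)).2
    ⟨inferInstance, fun P _ x => ⟨0, x, by rw [pow_zero, pow_one, RingHom.id_apply, sub_self]; exact P.zero_mem⟩⟩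

theorem isIntegrallyClosed_stalk_Spec (A : CommRingCat.{u}) [IsDomain A] [IsIntegrallyClosed A] (p : Spec A) :
    IsIntegrallyClosed ((Spec A).presheaf.stalk p) := by
  haveI : IsLocalization.AtPrime ((Spec.structureSheaf A).presheaf.stalk p) p.asIdeal :=
    StructureSheaf.IsLocalization.to_stalk A p
  exact isIntegrallyClosed_of_isLocalization ((Spec.structureSheaf A).presheaf.stalk p) p.asIdeal.primeCompl
    p.asIdeal.primeCompl_le_nonZeroDivisors

/-- The generic point of the spectrum of a discrete valuation ring is open. -/
theorem isOpen_singleton_genericPoint_dvr (W : Type u) [CommRing W] [IsDomain W] [IsDiscreteValuationRing W] :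
    IsOpen ({genericPoint ↥(Spec (CommRingCat.of W))} : Set ↥(Spec (CommRingCat.of W))) := by
  haveI : IsDomain (CommRingCat.of W) := inferInstanceAs (IsDomain W)
  obtain ⟨ϖ, hϖ⟩ := IsDiscreteValuationRing.exists_irreducible W
  have : ({genericPoint ↥(Spec (CommRingCat.of W))} : Set ↥(Spec (CommRingCat.of W))) = (PrimeSpectrum.basicOpen ϖ : Set (PrimeSpectrum W)) := by
    ext q
    show q = genericPoint ↥(Spec (CommRingCat.of W)) ↔ ϖ ∉ (show PrimeSpectrum W from q).asIdeal
    rw [genericPoint_eq_bot_of_affine]
    constructor
    · rintro rfl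
      exact hϖ.ne_zero
    · intro hq
      refine PrimeSpectrum.ext ?_
      by_contra hne
      rw [IsLocalRing.eq_maximalIdeal ((show PrimeSpectrum W from q).isPrime.isMaximal hne),
        hϖ.maximalIdeal_eq] at hq
      exact hq (Ideal.mem_span_singleton_self ϖ)
  rw [this]
  exact PrimeSpectrum.isOpen_basicOpen

variable {X Y : Scheme.{u}} (f : X ⟶ Y) [IsProper f]

/-- One radicial point of the Stein factor gives a geometrically connected fibre. -/
theorem geometricallyConnected_fiber_of_radicial (y : Y) (hy : y ∈ Set.range f)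
    (hu : ∀ x x' : ↥f.normalization, f.fromNormalization x = y → f.fromNormalization x' = y → x = x')
    (hi : ∀ x : ↥f.normalization, f.fromNormalization x = y → (f.fromNormalization.residueFieldMap x).hom.IsPurelyInseparable) :
    GeometricallyConnected (f.fiberToSpecResidueField y) := by
  let g := f.fromNormalization
  -- field points of the Stein factor over `y` are determined by the base
  have hpts : ∀ (K : Type u) [Field K] (g₁ g₂ : Spec (CommRingCat.of K) ⟶ f.normalization),
      g (g₁ (IsLocalRing.closedPoint K)) = y → g₁ ≫ g = g₂ ≫ g → g₁ = g₂ := by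
    intro K _ g₁ g₂ h1 hg
    obtain ⟨e, h⟩ := Scheme.SpecToEquivOfField_eq_iff.mp congr((Y.SpecToEquivOfField K) $(hg))
    apply (f.normalization.SpecToEquivOfField K).injective
    simp only [Scheme.SpecToEquivOfField_apply_fst, Scheme.SpecToEquivOfField_apply_snd] at e h
    simp only [Scheme.descResidueField_stalkClosedPointTo_comp] at e h
    have e' : g₁ (IsLocalRing.closedPoint K) = g₂ (IsLocalRing.closedPoint K) := hu _ _ h1 (e.symm.trans h1)
    rw [← g.residueFieldMap_congr'_assoc e', CommRingCat.hom_ext_iff] at h
    rw [Scheme.SpecToEquivOfField_eq_iff]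
    have hfx := hi _ h1
    algebraize [(g.residueFieldMap (g₁ (IsLocalRing.closedPoint K))).hom]
    refine ⟨e', CommRingCat.hom_ext ?_⟩
    exact IsPurelyInseparable.injective_comp_algebraMap
      (Y.residueField (g (g₁ (IsLocalRing.closedPoint K)))) (f.normalization.residueField (g₁ (IsLocalRing.closedPoint K))) _ h
  haveI : UniversallyInjective (pullback.snd g (Y.fromSpecResidueField y)) := by
    refine ((tfae_universallyInjective _).out 0 1).2
      (show ∀ (K : Type u) [Field K], Function.Injective (fun t : Spec (CommRingCat.of K) ⟶ pullback g (Y.fromSpecResidueField y) =>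
        t ≫ pullback.snd g (Y.fromSpecResidueField y)) from fun K _ g₁ g₂ he => ?_)
    have he' : g₁ ≫ pullback.snd g (Y.fromSpecResidueField y) = g₂ ≫ pullback.snd g (Y.fromSpecResidueField y) := he
    refine pullback.hom_ext (hpts K _ _ ?_ ?_) he'
    · rw [← Scheme.Hom.comp_apply, Category.assoc, pullback.condition, Scheme.Hom.comp_apply, Scheme.Hom.comp_apply,
        Scheme.fromSpecResidueField_apply]
    · rw [Category.assoc, Category.assoc, pullback.condition, ← Category.assoc, he', Category.assoc]
  refine ⟨geometrically_iff_of_isClosedUnderIsomorphisms.mpr fun K _ c => ?_⟩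
  have hP := (IsPullback.of_hasPullback (f.fiberToSpecResidueField y) c).paste_horiz
    (IsPullback.of_hasPullback f (Y.fromSpecResidueField y))
  have hQ := (IsPullback.of_hasPullback (g.fiberToSpecResidueField y) c).paste_horiz
    (IsPullback.of_hasPullback g (Y.fromSpecResidueField y))
  obtain ⟨-, -, -, hiff⟩ := stein_bc f _ hP hQ
    (hQ.lift ((pullback.fst (f.fiberToSpecResidueField y) c ≫ f.fiberι y) ≫ f.toNormalization)
      (pullback.snd (f.fiberToSpecResidueField y) c)
      ((Category.assoc _ _ _).trans ((congrArg _ f.toNormalization_fromNormalization).trans hP.w)))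
    (hQ.lift_fst _ _ _) (hQ.lift_snd _ _ _)
  haveI : Subsingleton ↥(pullback (g.fiberToSpecResidueField y) c) := by
    haveI : UniversallyInjective (pullback.snd (g.fiberToSpecResidueField y) c) :=
      MorphismProperty.pullback_snd _ _ ‹UniversallyInjective (pullback.snd g (Y.fromSpecResidueField y))›
    exact ⟨fun a b => (pullback.snd (g.fiberToSpecResidueField y) c).injective
      (Subsingleton.elim (α := Spec (CommRingCat.of K)) _ _)⟩
  obtain ⟨z⟩ : Nonempty ↥(pullback (f.fiberToSpecResidueField y) c) := by
    obtain ⟨x, hx⟩ := hy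
    let w := (f.fiberHomeo y).symm ⟨x, hx⟩
    obtain ⟨z, -, -⟩ := Scheme.Pullback.exists_preimage_pullback (f := f.fiberToSpecResidueField y) (g := c) w default
      (Subsingleton.elim (α := Spec (Y.residueField y)) _ _)
    exact ⟨z⟩
  refine connectedSpace_iff_connectedComponent.2 ⟨z, Set.eq_univ_of_forall fun w => ?_⟩
  rw [(hiff z w).1 (Subsingleton.elim _ _)]
  exact mem_connectedComponent

/-- Connectedness of fibres through discrete valuation rings, when every component of the base change meets the generic fibre. -/
theorem geometricallyConnected_of_dvr [IsLocallyNoetherian Y] {η y : Y} (hs : η ⤳ y) (hne : η ≠ y)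
    (hirr : IrreducibleSpace ↥(f.fiber η)) (hη : GeometricallyConnected (f.fiberToSpecResidueField η))
    (hgz : ∀ (W : ValuationSubring (Y.residueField η)) (t : Spec (CommRingCat.of W) ⟶ Y),
      IsDiscreteValuationRing W → t (genericPoint ↥(Spec (CommRingCat.of W))) = η →
      ∀ Z ∈ irreducibleComponents ↥(pullback f t),
        ∃ v, pullback.snd f t v = genericPoint ↥(Spec (CommRingCat.of W)) ∧ v ∈ Z) :
    GeometricallyConnected (f.fiberToSpecResidueField y) := by
  obtain ⟨W, t, hW, hclosed, hgen⟩ :=
    Groth.L07.DVRProper.exists_dvr_through' hs hne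
  let Y' : Scheme.{u} := Spec (CommRingCat.of W)
  haveI : IsDomain (CommRingCat.of W) := inferInstanceAs (IsDomain W)
  haveI : IsNoetherianRing (CommRingCat.of W) := inferInstanceAs (IsNoetherianRing W)
  haveI : IsIntegral Y' := inferInstance
  let j : Spec (Y.residueField η) ⟶ Y' := Spec.map (CommRingCat.ofHom W.subtype)
  have hj : ∀ p, j p = genericPoint Y' := fun p => by
    rw [genericPoint_eq_bot_of_affine]
    refine PrimeSpectrum.ext ?_
    show Ideal.comap W.subtype _ = ⊥
    rw [Subsingleton.elim p (⊥ : PrimeSpectrum (Y.residueField η))]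
    show Ideal.comap W.subtype ⊥ = ⊥
    rw [← RingHom.ker_eq_comap_bot]
    exact (RingHom.injective_iff_ker_eq_bot _).1 Subtype.val_injective
  have ht : t (genericPoint Y') = η := by
    rw [← hj default, ← Scheme.Hom.comp_apply, hgen, Scheme.fromSpecResidueField_apply]
  let f₁ := pullback.snd f t
  have sq₁ := IsPullback.of_hasPullback f t
  haveI : IsLocallyNoetherian (pullback f t) := LocallyOfFiniteType.isLocallyNoetherian f₁
  -- the generic fibre
  let η' := genericPoint Y'
  let P₀ := pullback f₁ j
  have hP₀ : IsPullback (pullback.fst f₁ j ≫ pullback.fst f t) (pullback.snd f₁ j) f (Y.fromSpecResidueField η) := by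
    rw [← hgen]
    exact (IsPullback.of_hasPullback f₁ j).paste_horiz sq₁
  have hgenopen : IsOpen ({η'} : Set Y') := isOpen_singleton_genericPoint_dvr W
  have hirrP : IrreducibleSpace ↥P₀ := by
    haveI : IrreducibleSpace ↥(pullback f (Y.fromSpecResidueField η)) := hirr
    refine (irreducibleSpace_def _).2 ?_
    rw [Set.top_eq_univ, ← hP₀.isoPullback.inv.homeomorph.surjective.range_eq, ← Set.image_univ]
    exact (IrreducibleSpace.isIrreducible_univ _).image _ hP₀.isoPullback.inv.continuous.continuousOn
  -- irreducibility of the base change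
  have hsurjP : ∀ z, f₁ z = η' → z ∈ Set.range (pullback.fst f₁ j) := fun z hz => by
    rw [Scheme.Pullback.range_fst]
    exact ⟨default, (hj _).trans hz.symm⟩
  obtain ⟨p₀, hp₀⟩ := QuasiSober.sober hirrP.isIrreducible_univ isClosed_univ
  let z₀ := pullback.fst f₁ j p₀
  haveI : IrreducibleSpace ↥(pullback f t) := by
    refine (irreducibleSpace_def _).2 ?_
    rw [Set.top_eq_univ]
    have : (Set.univ : Set ↥(pullback f t)) = closure {z₀} := by
      refine Set.Subset.antisymm (fun z _ => ?_) (Set.subset_univ _)
      obtain ⟨w, hw⟩ := QuasiSober.sober (isIrreducible_irreducibleComponent (x := z)) isClosed_irreducibleComponent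
      obtain ⟨v', hv', hvZ⟩ := hgz W t hW ht _ (irreducibleComponent_mem_irreducibleComponents z)
      have hwv : w ⤳ v' := hw.specializes hvZ
      have hwη : f₁ w = η' := by
        have h1 : f₁ w ⤳ f₁ v' := hwv.map f₁.continuous
        rw [show f₁ v' = η' from hv'] at h1
        exact (h1.antisymm (genericPoint_specializes _)).eq
      obtain ⟨p, rfl⟩ := hsurjP w hwη
      exact ((hp₀.specializes trivial).map (pullback.fst f₁ j).continuous).trans
        (hw.specializes mem_irreducibleComponent) |>.mem_closure
    rw [this]
    exact isIrreducible_singleton.closure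
  -- the reduced structure
  let I := Scheme.IdealSheafData.vanishingIdeal (X := pullback f t) ⊤
  haveI : IsReduced I.subscheme := Groth.L18.isReduced_vanishingIdeal_subscheme _
  have hιsurj : Function.Surjective I.subschemeι := fun z => by
    have : z ∈ Set.range I.subschemeι := by
      rw [Scheme.IdealSheafData.range_subschemeι, Scheme.IdealSheafData.coe_support_vanishingIdeal]
      trivial
    exact this
  haveI : Surjective I.subschemeι := ⟨hιsurj⟩
  haveI : IrreducibleSpace ↥I.subscheme := by
    have hh : IsHomeomorph I.subschemeι := isHomeomorph_iff_continuous_isClosedMap_bijective.mpr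
      ⟨I.subschemeι.continuous, I.subschemeι.isClosedMap, I.subschemeι.isEmbedding.injective, hιsurj⟩
    refine (irreducibleSpace_def _).2 ?_
    rw [Set.top_eq_univ, ← hh.homeomorph.symm.surjective.range_eq, ← Set.image_univ]
    exact (IrreducibleSpace.isIrreducible_univ _).image _ hh.homeomorph.symm.continuous.continuousOn
  haveI : IsIntegral I.subscheme := isIntegral_of_irreducibleSpace_of_isReduced _
  let f₂ := I.subschemeι ≫ f₁
  have hbc : ∀ (K : Type u) [Field K] (σ : Spec (CommRingCat.of K) ⟶ Y'),
      ConnectedSpace ↥(pullback f₂ σ) ↔ ConnectedSpace ↥(pullback f₁ σ) := by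
    intro K _ σ
    let m : pullback f₂ σ ⟶ pullback f₁ σ :=
      pullback.lift (pullback.fst f₂ σ ≫ I.subschemeι) (pullback.snd f₂ σ) (by rw [Category.assoc]; exact pullback.condition)
    have hm : IsPullback (pullback.fst f₂ σ) m I.subschemeι (pullback.fst f₁ σ) := by
      refine IsPullback.of_bot ?_ (pullback.lift_fst _ _ _).symm (IsPullback.of_hasPullback f₁ σ)
      rw [pullback.lift_snd]
      exact IsPullback.of_hasPullback f₂ σ
    haveI : IsClosedImmersion m := MorphismProperty.of_isPullback hm inferInstance
    haveI : Surjective m := MorphismProperty.of_isPullback hm inferInstance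
    exact ⟨fun h => m.surjective.connectedSpace m.continuous, fun h => by
      have hh : IsHomeomorph m := isHomeomorph_iff_continuous_isClosedMap_bijective.mpr
        ⟨m.continuous, m.isClosedMap, m.isEmbedding.injective, m.surjective⟩
      exact (hh.homeomorph).symm.surjective.connectedSpace (hh.homeomorph).symm.continuous⟩
  haveI : IsDominant f₂ := ⟨by
    refine Dense.mono ?_ ((dense_iff_closure_eq (s := ({η'} : Set Y'))).2 (genericPoint_spec Y'))
    rintro _ rfl
    obtain ⟨z, hz⟩ := hιsurj z₀
    refine ⟨z, ?_⟩
    rw [Scheme.Hom.comp_apply, hz, ← Scheme.Hom.comp_apply, pullback.condition, Scheme.Hom.comp_apply]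
    exact hj _⟩
  have hη₂ : GeometricallyConnected (f₂.fiberToSpecResidueField η') := by
    refine ⟨geometrically_iff_of_isClosedUnderIsomorphisms.mpr fun K _ c => ?_⟩
    let e := pullbackLeftPullbackSndIso f₂ (Y'.fromSpecResidueField η') c
    haveI : ConnectedSpace ↥(pullback f₂ (c ≫ Y'.fromSpecResidueField η')) := by
      rw [hbc K (c ≫ Y'.fromSpecResidueField η')]
      let e₁ := pullbackLeftPullbackSndIso f t (c ≫ Y'.fromSpecResidueField η')
      let σ := (c ≫ Y'.fromSpecResidueField η') ≫ t
      have hr : ∀ p, σ p = η := fun p => by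
        rw [Scheme.Hom.comp_apply, Scheme.Hom.comp_apply, Scheme.fromSpecResidueField_apply, ht]
      obtain ⟨ψ, hψ⟩ := Groth.L07.Count.exists_residueField_factor K σ η hr
      let e₂ := pullbackLeftPullbackSndIso f (Y.fromSpecResidueField η) (Spec.map ψ)
      haveI hc2 : ConnectedSpace ↥(pullback (pullback.snd f (Y.fromSpecResidueField η)) (Spec.map ψ)) :=
        hη.geometrically_connectedSpace _ _ _ (IsPullback.of_hasPullback _ _)
      let e₃ := e₂ ≪≫ pullback.congrHom (rfl : f = f) hψ ≪≫ e₁.symm
      exact e₃.hom.homeomorph.surjective.connectedSpace e₃.hom.homeomorph.continuous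
    exact e.inv.homeomorph.surjective.connectedSpace e.inv.homeomorph.continuous
  have hS : ∀ q : Y', CAlg2.IsGeomUnibranch (Y'.presheaf.stalk q) := fun q => by
    haveI : IsIntegrallyClosed (CommRingCat.of W) := inferInstanceAs (IsIntegrallyClosed W)
    haveI := isIntegrallyClosed_stalk_Spec (CommRingCat.of W) q
    exact isGeomUnibranch_of_normal
  haveI := Groth.Agent.S7803.result f₂ hS hη₂
  -- back to the closed point
  refine ⟨geometrically_iff_of_isClosedUnderIsomorphisms.mpr fun K _ c => ?_⟩
  let q₀ : Y' := IsLocalRing.closedPoint W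
  obtain ⟨L, _, a, b, hab⟩ : ∃ (L : Type u) (_ : Field L) (a : Spec (CommRingCat.of L) ⟶ Spec (CommRingCat.of K))
      (b : Spec (CommRingCat.of L) ⟶ Y'), a ≫ c ≫ Y.fromSpecResidueField y = b ≫ t := by
    obtain ⟨w, -, -⟩ := Scheme.Pullback.exists_preimage_pullback (f := c ≫ Y.fromSpecResidueField y) (g := t)
      default q₀ (by rw [Scheme.Hom.comp_apply, Scheme.fromSpecResidueField_apply]; exact hclosed.symm)
    refine ⟨_, inferInstance, Scheme.fromSpecResidueField _ w ≫ pullback.fst _ _,
      Scheme.fromSpecResidueField _ w ≫ pullback.snd _ _, ?_⟩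
    rw [Category.assoc, pullback.condition, Category.assoc]
  haveI h2 : ConnectedSpace ↥(pullback f₂ b) :=
    GeometricallyConnected.geometrically_connectedSpace (f := f₂) _ _ _ (IsPullback.of_hasPullback f₂ b)
  haveI h1 := (hbc L b).1 h2
  let e₁ := pullbackLeftPullbackSndIso f t b ≪≫ pullback.congrHom rfl hab.symm
  let e₂ := pullbackLeftPullbackSndIso f (Y.fromSpecResidueField y) c
  let e₃ := pullbackLeftPullbackSndIso f (c ≫ Y.fromSpecResidueField y) a
  let π : pullback f₁ b ⟶ pullback (pullback.snd f (Y.fromSpecResidueField y)) c :=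
    e₁.hom ≫ e₃.inv ≫ pullback.fst _ a ≫ e₂.inv
  haveI : Surjective a := ⟨fun _ => ⟨default, Subsingleton.elim (α := Spec (CommRingCat.of K)) _ _⟩⟩
  haveI : Surjective (pullback.fst (pullback.snd f (c ≫ Y.fromSpecResidueField y)) a) :=
    MorphismProperty.pullback_fst _ _ inferInstance
  haveI : Surjective π := inferInstance
  exact π.surjective.connectedSpace π.continuous

/-- Connectedness of all fibres over all discrete valuation rings through the point suffices. -/
theorem geometricallyConnected_of_dominating [IsIntegral X] [IsIntegral Y] [IsLocallyNoetherian Y]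
    (hξ : f (genericPoint X) = genericPoint Y)
    (hopen : ∀ (Y' : Scheme.{u}) (g : Y' ⟶ Y), IrreducibleSpace ↥Y' → IsLocallyNoetherian Y' →
      IsDominant g → ∀ Z ∈ irreducibleComponents ↥(pullback f g), Dense ((pullback.snd f g).base '' Z))
    (hη : GeometricallyConnected (f.fiberToSpecResidueField (genericPoint Y))) (y : Y) :
    GeometricallyConnected (f.fiberToSpecResidueField y) := by
  by_cases hyη : genericPoint Y = y
  · subst hyη; exact hη
  have hirr : IrreducibleSpace ↥(f.fiber (genericPoint Y)) := by
    let w := (f.fiberHomeo (genericPoint Y)).symm ⟨genericPoint X, hξ⟩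
    have hw : closure ({w} : Set ↥(f.fiber (genericPoint Y))) = Set.univ := Set.eq_univ_of_forall fun v => by
      rw [← specializes_iff_mem_closure, ← (f.fiberι (genericPoint Y)).isEmbedding.isInducing.specializes_iff]
      show f.fiberι (genericPoint Y) w ⤳ f.fiberι (genericPoint Y) v
      rw [Scheme.Hom.fiberι_fiberHomeo_symm]
      exact genericPoint_specializes _
    refine (irreducibleSpace_def _).2 ?_
    rw [Set.top_eq_univ, ← hw]
    exact isIrreducible_singleton.closure
  refine geometricallyConnected_of_dvr f (genericPoint_specializes (α := Y) y) hyη hirr hη ?_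
  intro W t hW ht Z hZ
  haveI : IsDomain (CommRingCat.of W) := inferInstanceAs (IsDomain W)
  haveI : IsNoetherianRing (CommRingCat.of W) := inferInstanceAs (IsNoetherianRing W)
  haveI : IsDominant t := ⟨Dense.mono (Set.singleton_subset_iff.2 ⟨_, ht⟩) (dense_iff_closure_eq.2 (genericPoint_spec Y))⟩
  have hgenopen : IsOpen ({genericPoint ↥(Spec (CommRingCat.of W))} : Set ↥(Spec (CommRingCat.of W))) :=
    isOpen_singleton_genericPoint_dvr W
  obtain ⟨v, hv, hvZ⟩ := (hopen _ t inferInstance inferInstance inferInstance _ hZ).inter_open_nonempty _ hgenopen ⟨_, rfl⟩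
  obtain ⟨v', hv', rfl⟩ := hvZ
  exact ⟨v', hv, hv'⟩

end Groth.L16.Connected
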