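import Groth.Agent.L16.Connected.Radicial
import Mathlib.RingTheory.KrullDimension.Basic
import Mathlib.FieldTheory.IsAlgClosed.AlgebraicClosure
import Mathlib.AlgebraicGeometry.GammaSpecAdjunction

/-!
Geometric connectedness of a proper scheme over a field through its ring of functions.
-/

set_option autoImplicit false
set_option linter.style.haveILetI false
set_option linter.unusedSectionVars false
set_option backward.isDefEq.respectTransparency false

universe u

open CategoryTheory CategoryTheory.Limits AlgebraicGeometry TopologicalSpace Opposite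

noncomputable section

namespace Groth.L16.Connected

variable {k : Type u} [Field k] {X : Scheme.{u}} (f : X ⟶ Spec (CommRingCat.of k)) [IsProper f]

theorem geometricallyConnected_iff_universallyInjective :
    GeometricallyConnected f ↔ Nonempty ↥X ∧ UniversallyInjective f.fromNormalization := by
  let g := f.fromNormalization
  constructor
  · intro hf
    refine ⟨?_, ?_⟩
    · haveI : ConnectedSpace ↥(pullback f (𝟙 _)) :=
        hf.geometrically_connectedSpace _ _ _ (IsPullback.of_hasPullback f (𝟙 _))
      exact ⟨pullback.fst f (𝟙 _) (Classical.arbitrary _)⟩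
    refine ⟨fun {A B} i₁ i₂ g' H a a' haa => ?_⟩
    let σ := B.fromSpecResidueField (g' a) ≫ i₂
    have hQ : IsPullback (g'.fiberι (g' a) ≫ i₁) (g'.fiberToSpecResidueField (g' a)) g σ :=
      (IsPullback.of_hasPullback g' (B.fromSpecResidueField (g' a))).paste_horiz H.flip
    have hP := IsPullback.of_hasPullback f σ
    obtain ⟨-, -, hs, hiff⟩ := stein_bc f σ hP hQ
      (hQ.lift (pullback.fst f σ ≫ f.toNormalization) (pullback.snd f σ)
        ((Category.assoc _ _ _).trans ((congrArg _ f.toNormalization_fromNormalization).trans hP.w)))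
      (hQ.lift_fst _ _ _) (hQ.lift_snd _ _ _)
    haveI : ConnectedSpace ↥(pullback f σ) := hf.geometrically_connectedSpace _ _ _ hP
    obtain ⟨z, hz⟩ := hs (g'.asFiber a)
    obtain ⟨z', hz'⟩ := hs ((g'.fiberHomeo (g' a)).symm ⟨a', haa.symm⟩)
    have he := (hiff z z').2 (by
      rw [PreconnectedSpace.connectedComponent_eq_univ, PreconnectedSpace.connectedComponent_eq_univ])
    rw [hz, hz'] at he
    exact congrArg Subtype.val ((g'.fiberHomeo (g' a)).symm.injective he)
  · rintro ⟨⟨x⟩, hui⟩
    haveI : Surjective f := ⟨fun y => ⟨x, Subsingleton.elim (α := Spec (CommRingCat.of k)) _ _⟩⟩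
    exact geometricallyConnected_of_universallyInjective f

/-- The structure map of the ring of functions. -/
def toFunctions : CommRingCat.of k ⟶ Γ(X, ⊤) := (Scheme.ΓSpecIso (CommRingCat.of k)).inv ≫ f.appTop

theorem universallyInjective_fromNormalization_iff :
    UniversallyInjective f.fromNormalization ↔ UniversallyInjective (Spec.map (toFunctions f)) := by
  let N := f.normalization
  haveI : IsAffine N := isAffine_of_isAffineHom f.fromNormalization
  haveI : IsIso f.toNormalization.appTop := Groth.L00.SteinNorm.isIso_toNormalization_app f ⊤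
  have h1 : f.fromNormalization = (N.toSpecΓ ≫ inv (Spec.map f.toNormalization.appTop)) ≫ Spec.map (toFunctions f) := by
    rw [toFunctions, Spec.map_comp,
      show f.appTop = (f.toNormalization ≫ f.fromNormalization).appTop by rw [f.toNormalization_fromNormalization],
      Scheme.Hom.comp_appTop, Spec.map_comp]
    simp only [Category.assoc, IsIso.inv_hom_id_assoc]
    rw [← Scheme.toSpecΓ_naturality_assoc, ← SpecMap_ΓSpecIso_hom, ← Spec.map_comp, Iso.inv_hom_id, Spec.map_id, Category.comp_id]
  rw [h1]
  exact MorphismProperty.cancel_left_of_respectsIso @UniversallyInjective _ _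

theorem nonempty_iff_nontrivial_functions : Nonempty ↥X ↔ Nontrivial Γ(X, ⊤) := by
  constructor
  · rintro ⟨x⟩
    exact ⟨0, 1, fun h => by
      have := congrArg (X.presheaf.germ ⊤ x trivial) h
      rw [map_zero, map_one] at this
      exact zero_ne_one this⟩
  · intro h
    by_contra hX
    haveI := not_nonempty_iff.1 hX
    haveI : Subsingleton Γ(X, ⊤) := by
      rw [show (⊤ : X.Opens) = ⊥ from Opens.ext (Set.eq_empty_of_isEmpty _)]
      infer_instance
    exact not_subsingleton Γ(X, ⊤) inferInstance

/-- The algebraic criterion for radiciality of a zero dimensional algebra. -/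
theorem universallyInjective_spec_iff (R : CommRingCat.{u}) (φ : CommRingCat.of k ⟶ R) :
    (Nontrivial R ∧ UniversallyInjective (Spec.map φ)) ↔ (IsLocalRing R ∧ ringKrullDim R = 0 ∧
      ∀ a : R, ∃ (n : ℕ) (c : k), IsNilpotent (a ^ (ringExpChar k ^ n) - φ c)) := by
  obtain ⟨q, hq⟩ := ExpChar.exists k
  haveI := hq
  rw [ringExpChar.eq k q]
  constructor
  · rintro ⟨hR, hui⟩
    haveI := hR
    haveI : Subsingleton (PrimeSpectrum R) :=
      ⟨fun a b => (Spec.map φ).injective (Subsingleton.elim (α := Spec (CommRingCat.of k)) _ _)⟩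
    obtain ⟨P⟩ : Nonempty (PrimeSpectrum R) := inferInstance
    haveI hmax : P.asIdeal.IsMaximal := by
      obtain ⟨m, hm, -⟩ := P.asIdeal.exists_le_maximal P.isPrime.ne_top
      rw [show P = ⟨m, hm.isPrime⟩ from Subsingleton.elim _ _]
      exact hm
    refine ⟨IsLocalRing.of_unique_max_ideal ⟨P.asIdeal, hmax, fun J hJ =>
      congrArg PrimeSpectrum.asIdeal (Subsingleton.elim (⟨J, hJ.isPrime⟩ : PrimeSpectrum R) P)⟩,
      le_antisymm (Order.krullDim_nonpos_of_subsingleton) Order.krullDim_nonneg, fun a => ?_⟩
    letI := Ideal.Quotient.field P.asIdeal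
    let mk := Ideal.Quotient.mk P.asIdeal
    letI : Algebra k (R ⧸ P.asIdeal) := (mk.comp φ.hom).toAlgebra
    haveI : IsPurelyInseparable k (R ⧸ P.asIdeal) := by
      refine (isPurelyInseparable_iff_subsingleton_emb _ _).2 ⟨fun σ₁ σ₂ => ?_⟩
      let E := AlgebraicClosure (R ⧸ P.asIdeal)
      have hinj : Function.Injective (fun t : Spec (CommRingCat.of E) ⟶ Spec R => t ≫ Spec.map φ) :=
        (show ∀ (K : Type u) [Field K], Function.Injective (fun t : Spec (CommRingCat.of K) ⟶ _ =>
            t ≫ Spec.map φ) from ((tfae_universallyInjective (Spec.map φ)).out 0 1).1 hui) E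
      apply AlgHom.coe_ringHom_injective
      refine Ideal.Quotient.ringHom_ext (congrArg CommRingCat.Hom.hom (Spec.map_injective (hinj (a₁ :=
        Spec.map (CommRingCat.ofHom (σ₁.toRingHom.comp mk))) (a₂ :=
        Spec.map (CommRingCat.ofHom (σ₂.toRingHom.comp mk))) ?_)))
      show Spec.map _ ≫ Spec.map φ = Spec.map _ ≫ Spec.map φ
      rw [← Spec.map_comp, ← Spec.map_comp]
      congr 1
      ext c
      exact (σ₁.commutes c).trans (σ₂.commutes c).symm
    obtain ⟨n, c, hc⟩ := IsPurelyInseparable.pow_mem k q (mk a)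
    refine ⟨n, c, mem_nilradical.1 ?_⟩
    rw [nilradical_eq_sInf, Ideal.mem_sInf]
    intro J hJ
    rw [show J = P.asIdeal from congrArg PrimeSpectrum.asIdeal (Subsingleton.elim (⟨J, hJ⟩ : PrimeSpectrum R) P),
      ← Ideal.Quotient.eq_zero_iff_mem]
    show mk _ = 0
    rw [map_sub, map_pow, sub_eq_zero]
    exact hc.symm
  · rintro ⟨hloc, -, hpow⟩
    refine ⟨inferInstance, ((tfae_universallyInjective (Spec.map φ)).out 0 1).2
      (show ∀ (K : Type u) [Field K], Function.Injective (fun t : Spec (CommRingCat.of K) ⟶ Spec R =>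
        t ≫ Spec.map φ) from fun K _ g₁ g₂ he => ?_)⟩
    obtain ⟨φ₁, rfl⟩ := Spec.map_surjective g₁
    obtain ⟨φ₂, rfl⟩ := Spec.map_surjective g₂
    have he' : φ ≫ φ₁ = φ ≫ φ₂ := Spec.map_injective (by simpa [Spec.map_comp] using he)
    haveI : ExpChar K q := expChar_of_injective_ringHom (φ ≫ φ₁).hom.injective q
    congr 1
    ext a
    obtain ⟨n, c, hn⟩ := hpow a
    have h1 := (hn.map φ₁.hom).eq_zero
    have h2 := (hn.map φ₂.hom).eq_zero
    rw [map_sub, map_pow, sub_eq_zero] at h1 h2
    apply iterateFrobenius_inj K q n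
    rw [iterateFrobenius_def, iterateFrobenius_def]
    exact h1.trans ((RingHom.congr_fun (congrArg CommRingCat.Hom.hom he') c).trans h2.symm)

end Groth.L16.Connected
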