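import Groth.Agent.L16.Connected.StalkClosure
import Groth.Agent.L06.Unibranch
import Mathlib.AlgebraicGeometry.Morphisms.UniversallyInjective
import Mathlib.RingTheory.RingHom.PurelyInseparable
import Mathlib.AlgebraicGeometry.Geometrically.Connected

/-!
Over a geometrically unibranch base the Stein factor is radicial as soon as it is so generically.
-/

set_option autoImplicit false
set_option linter.style.haveILetI false
set_option linter.unusedSectionVars false
set_option backward.isDefEq.respectTransparency false

universe u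

open CategoryTheory CategoryTheory.Limits AlgebraicGeometry TopologicalSpace Opposite

noncomputable section

namespace Groth.L16.Connected

/-- Powers of the exponential characteristic of the generic field are powers of the one of the closed field. -/
theorem exists_expChar_pow {O κ L : Type*} [CommRing O] [Field κ] [Field L] (res : O →+* κ) (ψ : O →+* L)
    (hψ : Function.Injective ψ) (e : ℕ) : ∃ e', ringExpChar L ^ e = ringExpChar κ ^ e' := by
  obtain ⟨p, hp⟩ := ExpChar.exists L
  haveI := hp
  rw [ringExpChar.eq L p]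
  cases hp with
  | zero => exact ⟨0, by simp⟩
  | prime hp =>
    haveI : CharP O p := (RingHom.charP_iff ψ hψ p).2 inferInstance
    haveI : Fact p.Prime := ⟨hp⟩
    haveI : NoZeroDivisors O := hψ.noZeroDivisors ψ (map_zero ψ) (map_mul ψ)
    haveI : CharP κ p := CharP.of_ringHom_of_ne_zero res p hp.ne_zero
    haveI : ExpChar κ p := ExpChar.prime hp
    exact ⟨e, by rw [ringExpChar.eq κ p]⟩

variable {X Y : Scheme.{u}} [IsIntegral X] [IsIntegral Y] (f : X ⟶ Y) [IsProper f]
  (hdom : f.base (genericPoint X) ⤳ genericPoint Y) {V : Y.Opens} (hV : IsAffineOpen V) (y : Y) (hy : y ∈ V)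

/-- Functions on the Stein factor over `V` are purely inseparable over the function field of the base. -/
def IsRadicialOver : Prop :=
  ∀ r : Γ(f.normalization, f.fromNormalization ⁻¹ᵁ V), ∃ (e : ℕ) (z : Y.functionField),
    CohIII.stalkToFunctionField f (genericPoint Y) hdom z =
      toFF f y (hdom.trans (genericPoint_specializes y)) hy r ^ (ringExpChar X.functionField ^ e)

/-- Over a geometrically unibranch point the Stein factor has one radicial point. -/
theorem radicial_fromNormalization (hrad : IsRadicialOver f hdom y hy)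
    (hU : CAlg2.IsGeomUnibranch (Y.presheaf.stalk y)) (hV : IsAffineOpen V) :
    (∀ x x' : ↥f.normalization, f.fromNormalization x = y → f.fromNormalization x' = y → x = x') ∧
      ∀ x : ↥f.normalization, f.fromNormalization x = y → (f.fromNormalization.residueFieldMap x).hom.IsPurelyInseparable := by
  let g := f.fromNormalization
  let N := g ⁻¹ᵁ V
  have hN : IsAffineOpen N := hV.preimage g
  have hgy : genericPoint Y ⤳ y := genericPoint_specializes y
  have h : f.base (genericPoint X) ⤳ y := hdom.trans hgy
  let O := Y.presheaf.stalk y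
  let K := Y.functionField
  letI : Algebra O K := (Y.presheaf.stalkSpecializes hgy).hom.toAlgebra
  haveI : IsFractionRing O K := inferInstance
  let NK := integralClosure O K
  haveI : IsIntegrallyClosed NK := integralClosure.isIntegrallyClosedOfFiniteExtension K
  have hO : Function.Injective (algebraMap O K) := IsFractionRing.injective O K
  obtain ⟨hloc, hPI⟩ := (Groth.L06.Unibranch.isGeomUnibranch_iff (S := O) (N := NK) (algebraMap O NK)
    (fun x => Algebra.IsIntegral.isIntegral (R := O) x)
    (by rw [(RingHom.injective_iff_ker_eq_bot _).1 (fun a b hab => hO (congrArg Subtype.val hab))]; exact bot_le)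
    (fun x => by
      obtain ⟨a, b, hb, hab⟩ := IsFractionRing.div_surjective (A := O) x.1
      refine ⟨b, a, fun h0 => nonZeroDivisors.ne_zero hb (hO ((congrArg Subtype.val h0).trans (map_zero _).symm)),
        Subtype.ext ?_⟩
      show algebraMap O K b * x.1 = algebraMap O K a
      rw [← hab, mul_div_cancel₀]
      exact fun h0 => nonZeroDivisors.ne_zero hb (hO (h0.trans (map_zero _).symm)))).1 hU
  haveI := hloc
  let θ : K →+* X.functionField := CohIII.stalkToFunctionField f (genericPoint Y) hdom
  have hθ : ∀ o : O, θ (algebraMap O K o) = CohIII.stalkToFunctionField f y h o := fun o => by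
    show f.stalkMap (genericPoint X) (Y.presheaf.stalkSpecializes hdom (Y.presheaf.stalkSpecializes hgy o)) = _
    rw [← ConcreteCategory.comp_apply, ← ConcreteCategory.comp_apply, TopCat.Presheaf.stalkSpecializes_comp_assoc]
    rfl
  letI : Algebra O X.functionField := (CohIII.stalkToFunctionField f y h).toAlgebra
  let θ' : K →ₐ[O] X.functionField := ⟨θ, hθ⟩
  let C := integralClosure O X.functionField
  let i : NK →+* C := (θ'.toRingHom.comp NK.val.toRingHom).codRestrict C.toSubring fun n => n.2.map θ'
  letI : Algebra NK C := i.toAlgebra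
  haveI : IsScalarTower O NK C := IsScalarTower.of_algebraMap_eq fun o => Subtype.ext (hθ o).symm
  haveI : Algebra.IsIntegral NK C := ⟨fun c => (Algebra.IsIntegral.isIntegral (R := O) c).tower_top⟩
  let j : Γ(f.normalization, N) →+* C := (toFF f y h hy).codRestrict C.toSubring (isIntegral_toFF f y h hV hy)
  -- powers of functions on the Stein factor lie in the normalisation of the local ring
  have hz : ∀ r, ∃ (e : ℕ) (n : NK), i n = j r ^ (ringExpChar X.functionField ^ e) := by
    intro r
    obtain ⟨e, z, hz⟩ := hrad r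
    refine ⟨e, ⟨z, (isIntegral_algHom_iff θ' θ.injective).1 ?_⟩, Subtype.ext hz⟩
    show IsIntegral O (θ z)
    rw [hz]
    exact (show IsIntegral O (j r).1 from (j r).2).pow _
  have hQN : ∀ Q : Ideal C, Q.IsMaximal → Q.comap i = IsLocalRing.maximalIdeal NK := fun Q hQ => by
    haveI := hQ
    exact IsLocalRing.eq_maximalIdeal (Ideal.isMaximal_comap_of_isIntegral_of_isMaximal (R := NK) Q)
  have hmemN : ∀ x, g x = y → x ∈ N := fun x hx => by
    show g x ∈ V
    rw [hx]; exact hy
  have hpos : ∀ e, 0 < ringExpChar X.functionField ^ e := fun e =>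
    pow_pos (expChar_pos X.functionField (ringExpChar X.functionField)) e
  refine ⟨fun x x' hx hx' => ?_, fun x hx => ?_⟩
  · have hle : ∀ a b : N, g a.1 = y → g b.1 = y → (hN.primeIdealOf a).asIdeal ≤ (hN.primeIdealOf b).asIdeal := by
      intro a b ha hb r hr
      obtain ⟨Q, hQ, hQa⟩ := exists_maximal_above f y h hV hy a ha
      obtain ⟨Q', hQ', hQb⟩ := exists_maximal_above f y h hV hy b hb
      obtain ⟨e, n, hn⟩ := hz r
      have h1 : n ∈ Q.comap i := by
        show i n ∈ Q
        rw [hn]
        exact Ideal.pow_mem_of_mem Q (hQa.ge hr) _ (hpos e)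
      rw [hQN Q hQ, ← hQN Q' hQ'] at h1
      have h2 : j r ^ (ringExpChar X.functionField ^ e) ∈ Q' := by rw [← hn]; exact h1
      exact hQb.le (hQ'.isPrime.mem_of_pow_mem _ h2)
    have h3 : hN.primeIdealOf ⟨x, hmemN x hx⟩ = hN.primeIdealOf ⟨x', hmemN x' hx'⟩ :=
      PrimeSpectrum.ext (le_antisymm (hle _ _ hx hx') (hle _ _ hx' hx))
    have h4 := congrArg hN.fromSpec h3
    rwa [hN.fromSpec_primeIdealOf, hN.fromSpec_primeIdealOf] at h4
  · obtain ⟨Q, hQ, hQx⟩ := exists_maximal_above f y h hV hy ⟨x, hmemN x hx⟩ hx
    let κ := IsLocalRing.ResidueField O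
    let q := ringExpChar κ
    -- the congruence in the normalisation
    have hcong : ∀ r, ∃ (n : ℕ) (a s : Γ(Y, V)), y ∈ Y.basicOpen s ∧
        r ^ q ^ n * g.app V s - g.app V a ∈ (hN.primeIdealOf ⟨x, hmemN x hx⟩).asIdeal := by
      intro r
      obtain ⟨e, z, hzr⟩ := hz r
      obtain ⟨e', he'⟩ := exists_expChar_pow (IsLocalRing.residue O) (CohIII.stalkToFunctionField f y h)
        (fun a b hab => hO (θ.injective ((hθ a).trans (hab.trans (hθ b).symm)))) e
      let M := Q.comap i
      haveI hM : M.IsMaximal := by rw [show M = _ from hQN Q hQ]; infer_instance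
      obtain ⟨k, o, ho⟩ := hPI M z
      have hq : ringExpChar (NK ⧸ M) = q := by
        have hle : IsLocalRing.maximalIdeal O ≤ M.comap (algebraMap O NK) :=
          (IsLocalRing.eq_maximalIdeal (Ideal.isMaximal_comap_of_isIntegral_of_isMaximal (R := O) M)).ge
        let φ : κ →+* NK ⧸ M := Ideal.quotientMap M (algebraMap O NK) hle
        haveI : IsDomain (NK ⧸ M) := Ideal.Quotient.isDomain M
        exact Groth.L06.Unibranch.ringExpChar_of_hom φ φ.injective
      rw [hq] at ho
      letI : Algebra Γ(Y, V) O := Y.presheaf.algebra_section_stalk ⟨y, hy⟩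
      haveI := hV.isLocalization_stalk ⟨y, hy⟩
      obtain ⟨⟨a, s⟩, has⟩ := IsLocalization.surj (hV.primeIdealOf ⟨y, hy⟩).asIdeal.primeCompl o
      refine ⟨e' + k, a, s.1, (Scheme.mem_basicOpen _ _ _ hy).2 (IsLocalization.map_units O s), ?_⟩
      have hj : ∀ c, j (g.app V c) = i (algebraMap O NK (algebraMap Γ(Y, V) O c)) := fun c =>
        Subtype.ext ((RingHom.congr_fun (toFF_comp f y h hy) c).trans (hθ _).symm)
      refine hQx.le ?_
      show j _ ∈ Q
      rw [map_sub, map_mul, map_pow, hj, hj, ← has, map_mul, map_mul, pow_add, pow_mul, ← he', ← hzr, ← map_pow]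
      rw [← map_mul, ← map_mul i (algebraMap O NK o), ← map_sub, ← sub_mul]
      exact M.mul_mem_right _ ho
    -- the residue field
    subst hx
    rw [RingHom.IsPurelyInseparable]
    letI := (g.residueFieldMap x).hom.toAlgebra
    haveI : ExpChar (Y.residueField (g x)) q := ringExpChar.expChar _
    refine (isPurelyInseparable_iff_pow_mem (Y.residueField (g x)) q).2 fun u => ?_
    have hxN : x ∈ N := hmemN x rfl
    let ev := f.normalization.evaluation N x hxN
    have hev0 : ∀ r, r ∈ (hN.primeIdealOf ⟨x, hxN⟩).asIdeal → ev r = 0 := by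
      intro r hr
      refine (f.normalization.evaluation_eq_zero_iff_notMem_basicOpen x hxN r).2 fun hxr => ?_
      have hp : hN.primeIdealOf ⟨x, hxN⟩ ∈ hN.fromSpec ⁻¹ᵁ f.normalization.basicOpen r := by
        show hN.fromSpec (hN.primeIdealOf ⟨x, hxN⟩) ∈ f.normalization.basicOpen r
        rw [hN.fromSpec_primeIdealOf]; exact hxr
      rw [hN.fromSpec_preimage_basicOpen] at hp
      exact hp hr
    have hrange : ∀ r, ∃ n : ℕ, (ev r) ^ q ^ n ∈ (g.residueFieldMap x).hom.fieldRange := by
      intro r
      obtain ⟨n, a, s, hs, hmem⟩ := hcong r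
      refine ⟨n, ?_⟩
      have h1 := hev0 _ hmem
      rw [map_sub, map_mul, map_pow, sub_eq_zero] at h1
      have hs0 : Y.evaluation V (g x) hy s ≠ 0 := (Y.evaluation_ne_zero_iff_mem_basicOpen (g x) hy s).2 hs
      refine ⟨Y.evaluation V (g x) hy a / Y.evaluation V (g x) hy s, ?_⟩
      rw [map_div₀, div_eq_iff ((map_ne_zero_iff _ (g.residueFieldMap x).hom.injective).2 hs0)]
      erw [Scheme.evaluation_naturality_apply, Scheme.evaluation_naturality_apply]
      exact h1.symm
    obtain ⟨v, rfl⟩ := f.normalization.residue_surjective x u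
    letI : Algebra Γ(f.normalization, N) (f.normalization.presheaf.stalk x) :=
      f.normalization.presheaf.algebra_section_stalk ⟨x, hxN⟩
    haveI := hN.isLocalization_stalk ⟨x, hxN⟩
    obtain ⟨⟨a, b⟩, hab⟩ := IsLocalization.surj (hN.primeIdealOf ⟨x, hxN⟩).asIdeal.primeCompl v
    have hab' : f.normalization.residue x v * ev b.1 = ev a := by
      have := congrArg (f.normalization.residue x) hab
      rw [map_mul] at this
      exact this
    obtain ⟨n, hn⟩ := hrange a
    obtain ⟨m, hm⟩ := hrange b.1
    have hb0 : ev b.1 ≠ 0 := by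
      intro h0
      have := (IsLocalRing.residue_ne_zero_iff_isUnit _).2
        (IsLocalization.map_units (f.normalization.presheaf.stalk x) b)
      exact this h0
    refine ⟨n + m, ?_⟩
    have e1 : (f.normalization.residue x v) ^ q ^ (n + m) = (ev a ^ q ^ n) ^ q ^ m / (ev b.1 ^ q ^ m) ^ q ^ n := by
      rw [← pow_mul, ← pow_mul, ← pow_add, ← pow_add, Nat.add_comm m n, eq_div_iff (pow_ne_zero _ hb0), ← mul_pow, hab']
    rw [e1]
    exact ((g.residueFieldMap x).hom.fieldRange.div_mem (pow_mem hn _) (pow_mem hm _) :)

end Groth.L16.Connected
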