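import Groth.Agent.L16.Connected.PurelyInsep
import Mathlib.AlgebraicGeometry.Morphisms.UnderlyingMap

/-!
Geometric connectedness from radiciality of the Stein factor, and radiciality from a geometrically connected generic fibre.
-/

set_option autoImplicit false
set_option linter.style.haveILetI false
set_option linter.unusedSectionVars false
set_option backward.isDefEq.respectTransparency false

universe u

open CategoryTheory CategoryTheory.Limits AlgebraicGeometry TopologicalSpace Opposite

noncomputable section

namespace Groth.L16.Connected

variable {X Y : Scheme.{u}} (f : X ⟶ Y) [IsProper f]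

/-- A radicial Stein factor gives geometrically connected fibres. -/
theorem geometricallyConnected_of_universallyInjective [Surjective f] [UniversallyInjective f.fromNormalization] :
    GeometricallyConnected f := by
  refine ⟨geometrically_iff_of_isClosedUnderIsomorphisms.mpr fun K _ σ => ?_⟩
  have hP := IsPullback.of_hasPullback f σ
  have hQ := IsPullback.of_hasPullback f.fromNormalization σ
  obtain ⟨-, -, -, hiff⟩ := stein_bc f σ hP hQ
    (hQ.lift (pullback.fst f σ ≫ f.toNormalization) (pullback.snd f σ)
      ((Category.assoc _ _ _).trans ((congrArg _ f.toNormalization_fromNormalization).trans hP.w)))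
    (hQ.lift_fst _ _ _) (hQ.lift_snd _ _ _)
  haveI : Surjective (pullback.snd f σ) := MorphismProperty.pullback_snd _ _ inferInstance
  haveI : Subsingleton ↥(pullback f.fromNormalization σ) := by
    haveI : UniversallyInjective (pullback.snd f.fromNormalization σ) :=
      MorphismProperty.pullback_snd _ _ inferInstance
    exact ⟨fun a b => (pullback.snd f.fromNormalization σ).injective
      (Subsingleton.elim (α := Spec (CommRingCat.of K)) _ _)⟩
  obtain ⟨z⟩ : Nonempty ↥(pullback f σ) := ⟨((pullback.snd f σ).surjective default).choose⟩
  refine connectedSpace_iff_connectedComponent.2 ⟨z, Set.eq_univ_of_forall fun w => ?_⟩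
  rw [(hiff z w).1 (Subsingleton.elim _ _)]
  exact mem_connectedComponent

variable [IsIntegral X] [IsIntegral Y]

/-- Per point radiciality over unibranch local rings gives geometric connectedness. -/
theorem geometricallyConnected_of_radicial (hdom : f.base (genericPoint X) ⤳ genericPoint Y)
    (hrad : ∀ (V : Y.Opens) (_ : IsAffineOpen V) (y : Y) (hy : y ∈ V), IsRadicialOver f hdom y hy)
    (hU : ∀ y : Y, CAlg2.IsGeomUnibranch (Y.presheaf.stalk y)) : GeometricallyConnected f := by
  haveI : Surjective f := ⟨fun y => by
    obtain ⟨x, hx⟩ := (hdom.trans (genericPoint_specializes y)).mem_closed f.isClosedMap.isClosed_range ⟨_, rfl⟩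
    exact ⟨x, hx⟩⟩
  have key : ∀ y : Y, (∀ x x' : ↥f.normalization, f.fromNormalization x = y → f.fromNormalization x' = y → x = x') ∧
      ∀ x : ↥f.normalization, f.fromNormalization x = y →
        (f.fromNormalization.residueFieldMap x).hom.IsPurelyInseparable := fun y => by
    obtain ⟨_, ⟨V, hV, rfl⟩, hy, -⟩ :=
      Y.isBasis_affineOpens.exists_subset_of_mem_open (Set.mem_univ y) isOpen_univ
    exact radicial_fromNormalization f hdom y hy (hrad V hV y hy) (hU y) hV
  haveI : UniversallyInjective f.fromNormalization :=
    ((tfae_universallyInjective f.fromNormalization).out 0 2).2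
      (show Function.Injective f.fromNormalization ∧ ∀ x, (f.fromNormalization.residueFieldMap x).hom.IsPurelyInseparable from
        ⟨fun a b hab => (key _).1 a b hab rfl, fun x => (key _).2 x rfl⟩)
  exact geometricallyConnected_of_universallyInjective f

/-- A geometrically connected generic fibre makes the Stein factor radicial over the function field. -/
theorem isRadicialOver_of_generic (hη : GeometricallyConnected (f.fiberToSpecResidueField (genericPoint Y)))
    (hξ : f (genericPoint X) = genericPoint Y) (hdom : f.base (genericPoint X) ⤳ genericPoint Y)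
    {V : Y.Opens} (hV : IsAffineOpen V) (y : Y) (hy : y ∈ V) : IsRadicialOver f hdom y hy := by
  intro r
  let g := f.fromNormalization
  let N := g ⁻¹ᵁ V
  let h := hdom.trans (genericPoint_specializes y)
  let x' := f.toNormalization (genericPoint X)
  have hgx : g x' = genericPoint Y := by
    rw [← Scheme.Hom.comp_apply, f.toNormalization_fromNormalization]; exact hξ
  let η := genericPoint Y
  -- the fibre of the Stein factor over the generic point is radicial
  haveI hui : UniversallyInjective (pullback.snd g (Y.fromSpecResidueField η)) := by
    refine ⟨fun {A B} i₁ i₂ g' H a a' haa => ?_⟩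
    let σ := B.fromSpecResidueField (g' a) ≫ i₂ ≫ Y.fromSpecResidueField η
    have hQ : IsPullback (g'.fiberι (g' a) ≫ i₁ ≫ pullback.fst g (Y.fromSpecResidueField η))
        (g'.fiberToSpecResidueField (g' a)) g σ :=
      (IsPullback.of_hasPullback g' (B.fromSpecResidueField (g' a))).paste_horiz
        (H.flip.paste_horiz (IsPullback.of_hasPullback g (Y.fromSpecResidueField η)))
    have hP := IsPullback.of_hasPullback f σ
    obtain ⟨-, -, hs, hiff⟩ := stein_bc f σ hP hQ
      (hQ.lift (pullback.fst f σ ≫ f.toNormalization) (pullback.snd f σ)
        ((Category.assoc _ _ _).trans ((congrArg _ f.toNormalization_fromNormalization).trans hP.w)))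
      (hQ.lift_fst _ _ _) (hQ.lift_snd _ _ _)
    haveI : ConnectedSpace ↥(pullback f σ) := by
      let m : pullback f σ ⟶ f.fiber η := pullback.lift (pullback.fst f σ)
        (pullback.snd f σ ≫ B.fromSpecResidueField (g' a) ≫ i₂) (by
          rw [Category.assoc, Category.assoc]; exact pullback.condition)
      have hm : IsPullback m (pullback.snd f σ) (f.fiberToSpecResidueField η) (B.fromSpecResidueField (g' a) ≫ i₂) := by
        refine IsPullback.of_right ?_ (pullback.lift_snd _ _ _) (IsPullback.of_hasPullback f (Y.fromSpecResidueField η))
        rw [pullback.lift_fst, Category.assoc]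
        exact hP
      exact hη.geometrically_connectedSpace _ _ _ hm
    obtain ⟨z, hz⟩ := hs (g'.asFiber a)
    obtain ⟨z', hz'⟩ := hs ((g'.fiberHomeo (g' a)).symm ⟨a', haa.symm⟩)
    have he := (hiff z z').2 (by
      rw [PreconnectedSpace.connectedComponent_eq_univ, PreconnectedSpace.connectedComponent_eq_univ])
    rw [hz, hz'] at he
    exact congrArg Subtype.val ((g'.fiberHomeo (g' a)).symm.injective he)
  -- hence the residue field extension is purely inseparable
  have hins : (g.residueFieldMap x').hom.IsPurelyInseparable := by
    rw [RingHom.IsPurelyInseparable]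
    letI := (g.residueFieldMap x').hom.toAlgebra
    refine (isPurelyInseparable_iff_subsingleton_emb _ _).2 ⟨fun σ₁ σ₂ => ?_⟩
    let E := AlgebraicClosure (f.normalization.residueField x')
    let e : Spec (Y.residueField (g x')) ≅ Spec (Y.residueField η) := Scheme.Spec.mapIso (Y.residueFieldCongr hgx.symm).op
    let l : Spec (f.normalization.residueField x') ⟶ pullback g (Y.fromSpecResidueField η) :=
      pullback.lift (f.normalization.fromSpecResidueField x') (Spec.map (g.residueFieldMap x') ≫ e.hom) (by
        rw [Category.assoc, ← Scheme.Hom.SpecMap_residueFieldMap_fromSpecResidueField]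
        congr 1
        exact (Scheme.residueFieldCongr_fromSpecResidueField hgx.symm).symm)
    haveI : Mono l := by
      haveI : Mono (l ≫ pullback.fst g (Y.fromSpecResidueField η)) := by
        rw [pullback.lift_fst]; infer_instance
      exact mono_of_mono l (pullback.fst g (Y.fromSpecResidueField η))
    haveI hl : UniversallyInjective (l ≫ pullback.snd g (Y.fromSpecResidueField η)) :=
      MorphismProperty.comp_mem @UniversallyInjective l _ inferInstance hui
    have hinj : Function.Injective (fun t : Spec (CommRingCat.of E) ⟶ Spec (f.normalization.residueField x') =>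
        t ≫ l ≫ pullback.snd g (Y.fromSpecResidueField η)) :=
      (show ∀ (K : Type u) [Field K], Function.Injective (fun t : Spec (CommRingCat.of K) ⟶ _ =>
          t ≫ l ≫ pullback.snd g (Y.fromSpecResidueField η)) from
        ((tfae_universallyInjective (l ≫ pullback.snd g (Y.fromSpecResidueField η))).out 0 1).1 hl) E
    apply AlgHom.coe_ringHom_injective
    have e1 : Spec.map (CommRingCat.ofHom σ₁.toRingHom) = Spec.map (CommRingCat.ofHom σ₂.toRingHom) := by
      refine hinj ?_
      show _ ≫ l ≫ pullback.snd g (Y.fromSpecResidueField η) = _ ≫ l ≫ pullback.snd g (Y.fromSpecResidueField η)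
      rw [pullback.lift_snd, ← Category.assoc, ← Category.assoc, ← Spec.map_comp, ← Spec.map_comp]
      congr 2
      ext c
      exact (σ₁.commutes c).trans (σ₂.commutes c).symm
    exact congrArg CommRingCat.Hom.hom (Spec.map_injective e1)
  -- read it off in the function field
  have hxN : x' ∈ N := mem_preimage_toNormalization f y h hy
  have hηV : g x' ∈ V := hxN
  haveI : ExpChar (Y.residueField (g x')) (ringExpChar X.functionField) := by
    haveI := ringExpChar.expChar (Y.residueField (g x'))
    let φ : Y.residueField (g x') →+* X.residueField (genericPoint X) :=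
      (f.toNormalization.residueFieldMap (genericPoint X)).hom.comp (g.residueFieldMap x').hom
    haveI := expChar_of_injective_ringHom φ.injective (ringExpChar (Y.residueField (g x')))
    haveI := expChar_of_injective_ringHom (R := X.functionField) (A := X.residueField (genericPoint X))
      (f := (X.residue (genericPoint X)).hom) (RingHom.injective _) (ringExpChar X.functionField)
    rw [ExpChar.eq (R := X.residueField (genericPoint X)) (p := ringExpChar X.functionField) inferInstance
      (q := ringExpChar (Y.residueField (g x'))) inferInstance]
    infer_instance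
  letI := (g.residueFieldMap x').hom.toAlgebra
  haveI : IsPurelyInseparable (Y.residueField (g x')) (f.normalization.residueField x') := hins
  obtain ⟨e, w, hw⟩ := IsPurelyInseparable.pow_mem (Y.residueField (g x')) (ringExpChar X.functionField)
    (f.normalization.evaluation N x' hxN r)
  obtain ⟨v, rfl⟩ := Y.residue_surjective (g x') w
  letI : Algebra Γ(Y, V) (Y.presheaf.stalk (g x')) := Y.presheaf.algebra_section_stalk ⟨g x', hηV⟩
  haveI := hV.isLocalization_stalk ⟨g x', hηV⟩
  obtain ⟨⟨a, s⟩, has⟩ := IsLocalization.surj (hV.primeIdealOf ⟨g x', hηV⟩).asIdeal.primeCompl v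
  have hes : g.residueFieldMap x' (Y.residue (g x') v) * g.residueFieldMap x' (Y.evaluation V (g x') hηV s.1) =
      g.residueFieldMap x' (Y.evaluation V (g x') hηV a) := by
    have := congrArg (fun t => g.residueFieldMap x' (Y.residue (g x') t)) has
    simp only [map_mul] at this
    exact this
  rw [show g.residueFieldMap x' (Y.residue (g x') v) = _ from hw] at hes
  erw [Scheme.evaluation_naturality_apply, Scheme.evaluation_naturality_apply] at hes
  have hes' := congrArg (f.toNormalization.residueFieldMap (genericPoint X)) hes
  rw [map_mul, map_pow] at hes'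
  erw [Scheme.evaluation_naturality_apply, Scheme.evaluation_naturality_apply,
    Scheme.evaluation_naturality_apply] at hes'
  have hρ : toFF f y h hy r ^ (ringExpChar X.functionField ^ e) * toFF f y h hy (g.app V s.1) = toFF f y h hy (g.app V a) :=
    RingHom.injective (show X.functionField →+* X.residueField (genericPoint X) from (X.residue (genericPoint X)).hom)
      (by rw [map_mul, map_pow]; exact hes')
  have hy' : genericPoint Y ∈ V := hgx ▸ hηV
  have hgξ : genericPoint X ∈ f ⁻¹ᵁ V := h.mem_open V.2 hy
  have hθ : ∀ c, toFF f y h hy (g.app V c) =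
      CohIII.stalkToFunctionField f (genericPoint Y) hdom (Y.presheaf.germ V (genericPoint Y) hy' c) := fun c =>
    ((RingHom.congr_fun (toFF_comp f y h hy) c).trans (stalkToFunctionField_germ f y h hy hgξ c)).trans
      (stalkToFunctionField_germ f (genericPoint Y) hdom hy' hgξ c).symm
  rw [hθ, hθ] at hρ
  refine ⟨e, Y.presheaf.germ V (genericPoint Y) hy' a / Y.presheaf.germ V (genericPoint Y) hy' s.1, ?_⟩
  have hs0 : CohIII.stalkToFunctionField f (genericPoint Y) hdom (Y.presheaf.germ V (genericPoint Y) hy' s.1) ≠ 0 := by
    rw [← hθ]
    intro h0
    have h1 : g.app V s.1 = 0 := toFF_injective f y h hy (h0.trans (map_zero _).symm)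
    have h2 : IsUnit (Y.presheaf.germ V (g x') hηV s.1) := IsLocalization.map_units (Y.presheaf.stalk (g x')) s
    have h3 := h2.map (g.stalkMap x').hom
    erw [Scheme.Hom.germ_stalkMap_apply, h1, map_zero] at h3
    exact not_isUnit_zero h3
  rw [map_div₀]
  exact (eq_div_iff hs0).2 hρ |>.symm

end Groth.L16.Connected
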