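import Groth.Agent.L16.Connected.Stein
import Mathlib.AlgebraicGeometry.FunctionField
import Mathlib.RingTheory.Ideal.GoingUp
import Mathlib.SetTheory.Cardinal.Basic
import Mathlib.RingTheory.Spectrum.Maximal.Basic

/-!
Components of a fibre against the maximal ideals of the integral closure of the local ring in the function field.
-/

set_option autoImplicit false
set_option linter.style.haveILetI false
set_option linter.unusedSectionVars false
set_option backward.isDefEq.respectTransparency false

universe u

open CategoryTheory CategoryTheory.Limits AlgebraicGeometry TopologicalSpace Opposite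

noncomputable section

namespace Groth.L16.Connected

variable {X Y : Scheme.{u}} [IsIntegral X] (f : X ⟶ Y) [IsProper f] (y : Y) (h : f.base (genericPoint X) ⤳ y)

theorem stalkToFunctionField_germ {V : Y.Opens} (hy : y ∈ V) (hg : genericPoint X ∈ f ⁻¹ᵁ V) (a : Γ(Y, V)) :
    CohIII.stalkToFunctionField f y h (Y.presheaf.germ V y hy a) =
      X.presheaf.germ (f ⁻¹ᵁ V) (genericPoint X) hg (f.app V a) := by
  rw [CohIII.stalkToFunctionField, RingHom.comp_apply]
  show f.stalkMap (genericPoint X) (Y.presheaf.stalkSpecializes h (Y.presheaf.germ V y hy a)) = _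
  rw [TopCat.Presheaf.germ_stalkSpecializes_apply]
  exact Scheme.Hom.germ_stalkMap_apply f V (genericPoint X) hg a

variable {V : Y.Opens}

include h in
theorem mem_preimage_toNormalization (hy : y ∈ V) :
    genericPoint X ∈ f.toNormalization ⁻¹ᵁ (f.fromNormalization ⁻¹ᵁ V) := by
  rw [← Scheme.Hom.comp_preimage, f.toNormalization_fromNormalization]
  exact h.mem_open V.2 hy

/-- Functions on the Stein factor inside the function field. -/
def toFF (hy : y ∈ V) : Γ(f.normalization, f.fromNormalization ⁻¹ᵁ V) →+* X.functionField :=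
  (X.presheaf.germ _ (genericPoint X) (mem_preimage_toNormalization f y h hy)).hom.comp
    (f.toNormalization.app (f.fromNormalization ⁻¹ᵁ V)).hom

theorem toFF_injective (hy : y ∈ V) : Function.Injective (toFF f y h hy) := by
  haveI := Groth.L00.SteinNorm.isIso_toNormalization_app f (f.fromNormalization ⁻¹ᵁ V)
  exact (germ_injective_of_isIntegral X (genericPoint X) (mem_preimage_toNormalization f y h hy)).comp
    (ConcreteCategory.bijective_of_isIso (f.toNormalization.app (f.fromNormalization ⁻¹ᵁ V))).1

theorem toFF_comp (hy : y ∈ V) : (toFF f y h hy).comp (f.fromNormalization.app V).hom =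
    (CohIII.stalkToFunctionField f y h).comp (Y.presheaf.germ V y hy).hom := by
  let g := f.fromNormalization
  let N := g ⁻¹ᵁ V
  have hgen := mem_preimage_toNormalization f y h hy
  refine RingHom.ext fun a => ?_
  refine Eq.trans ?_ (stalkToFunctionField_germ f y h hy (h.mem_open V.2 hy) a).symm
  show (f.toNormalization.app N ≫ X.presheaf.germ _ _ hgen) (g.app V a) = (f.app V ≫ X.presheaf.germ _ _ (h.mem_open V.2 hy)) a
  rw [← ConcreteCategory.comp_apply, ← Category.assoc, ← Scheme.Hom.comp_app,
    Scheme.Hom.congr_app f.toNormalization_fromNormalization V, Category.assoc]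
  erw [TopCat.Presheaf.germ_res]

theorem isIntegral_toFF (hV : IsAffineOpen V) (hy : y ∈ V) (r : Γ(f.normalization, f.fromNormalization ⁻¹ᵁ V)) :
    (CohIII.stalkToFunctionField f y h).IsIntegralElem (toFF f y h hy r) := by
  obtain ⟨P, hP, hPr⟩ := IsIntegralHom.isIntegral_app f.fromNormalization V hV r
  refine ⟨P.map (Y.presheaf.germ V y hy).hom, hP.map _, ?_⟩
  rw [Polynomial.eval₂_map, ← toFF_comp f y h hy, ← Polynomial.hom_eval₂, hPr, map_zero]

/-- A maximal ideal of the integral closure above a point of the Stein factor over `y`. -/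
theorem exists_maximal_above (hV : IsAffineOpen V) (hy : y ∈ V)
    (x : ↥(f.fromNormalization ⁻¹ᵁ V)) (hx : f.fromNormalization x.1 = y) :
    ∃ Q : Ideal (CohIII.integralClosureStalk f y h), Q.IsMaximal ∧
      Q.comap ((toFF f y h hy).codRestrict (CohIII.integralClosureStalk f y h) (isIntegral_toFF f y h hV hy)) =
        ((hV.preimage f.fromNormalization).primeIdealOf x).asIdeal := by
  let g := f.fromNormalization
  let N := g ⁻¹ᵁ V
  have hN : IsAffineOpen N := hV.preimage g
  let O := Y.presheaf.stalk y
  let ψ := CohIII.stalkToFunctionField f y h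
  let ρ := toFF f y h hy
  have hρ := toFF_injective f y h hy
  have hcompat := toFF_comp f y h hy
  letI : Algebra O X.functionField := ψ.toAlgebra
  let C := integralClosure O X.functionField
  letI : Algebra Γ(Y, V) Γ(f.normalization, N) := (g.app V).hom.toAlgebra
  haveI : Algebra.IsIntegral Γ(Y, V) Γ(f.normalization, N) := ⟨IsIntegralHom.isIntegral_app g V hV⟩
  let j : Γ(f.normalization, N) →+* C := ρ.codRestrict C.toSubring (isIntegral_toFF f y h hV hy)
  show ∃ Q : Ideal C, Q.IsMaximal ∧ Q.comap j = (hN.primeIdealOf x).asIdeal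
  let 𝔭 := (hN.primeIdealOf x).asIdeal
  letI : Algebra Γ(Y, V) O := Y.presheaf.algebra_section_stalk ⟨y, hy⟩
  haveI := hV.isLocalization_stalk ⟨y, hy⟩
  have hcomap : 𝔭.comap (g.app V).hom = (hV.primeIdealOf ⟨y, hy⟩).asIdeal := by
    have e := IsAffineOpen.comap_primeIdealOf_appLE (f := g) V hV N hN (le_refl N) x.2
    have ey : (⟨g x.1, x.2⟩ : V) = ⟨y, hy⟩ := Subtype.ext hx
    rw [Scheme.Hom.app_eq_appLE g]
    exact (congrArg PrimeSpectrum.asIdeal e).trans (congrArg (fun v => (hV.primeIdealOf v).asIdeal) ey)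
  let M : Submonoid Γ(f.normalization, N) := (hV.primeIdealOf ⟨y, hy⟩).asIdeal.primeCompl.map (g.app V).hom
  let R' := Localization M
  have hunit : ∀ m : M, IsUnit (j m) := by
    rintro ⟨_, s, hs, rfl⟩
    have h1 : j (g.app V s) = algebraMap O C (algebraMap Γ(Y, V) O s) := Subtype.ext (RingHom.congr_fun hcompat s)
    rw [h1]
    exact (IsLocalization.map_units O (⟨s, hs⟩ : (hV.primeIdealOf ⟨y, hy⟩).asIdeal.primeCompl)).map _
  let j' : R' →+* C := IsLocalization.lift hunit
  have hdisj : Disjoint (M : Set Γ(f.normalization, N)) (𝔭 : Set Γ(f.normalization, N)) := by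
    refine Set.disjoint_left.2 ?_
    rintro _ ⟨s, hs, rfl⟩ hs'
    exact hs ((hcomap).le hs')
  haveI : 𝔭.IsPrime := (hN.primeIdealOf x).isPrime
  let P' : Ideal R' := 𝔭.map (algebraMap _ R')
  haveI hP' : P'.IsPrime := IsLocalization.isPrime_of_isPrime_disjoint M R' 𝔭 inferInstance hdisj
  letI : Algebra R' C := j'.toAlgebra
  haveI : Algebra.IsIntegral R' C := ⟨fun c => by
    let o : O →+* R' := IsLocalization.lift (M := (hV.primeIdealOf ⟨y, hy⟩).asIdeal.primeCompl)
      (g := (algebraMap _ R').comp (g.app V).hom)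
      (fun s => IsLocalization.map_units R' (⟨_, s.1, s.2, rfl⟩ : M))
    have ho : j'.comp o = algebraMap O C := IsLocalization.ringHom_ext (hV.primeIdealOf ⟨y, hy⟩).asIdeal.primeCompl
      (RingHom.ext fun s => by
        show j' (o (algebraMap _ O s)) = _
        rw [IsLocalization.lift_eq]
        show j' (algebraMap _ R' (g.app V s)) = _
        rw [IsLocalization.lift_eq]
        exact Subtype.ext (RingHom.congr_fun hcompat s))
    obtain ⟨P, hP, hPc⟩ := (Algebra.IsIntegral.isIntegral (R := O) c : IsIntegral O c)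
    exact ⟨P.map o, hP.map o, by rw [Polynomial.eval₂_map]; show Polynomial.eval₂ (j'.comp o) c P = 0; rw [ho]; exact hPc⟩⟩
  have hker : RingHom.ker j' ≤ P' := by
    intro x hx
    obtain ⟨r, s, rfl⟩ := IsLocalization.exists_mk'_eq M x
    rw [RingHom.mem_ker, IsLocalization.lift_mk'_spec, mul_zero] at hx
    have : r = 0 := hρ ((congrArg Subtype.val hx).trans (map_zero ρ).symm)
    rw [this, IsLocalization.mk'_zero]
    exact zero_mem _
  obtain ⟨Q, -, hQc⟩ := Ideal.exists_ideal_over_prime_of_isIntegral P' (⊥ : Ideal C)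
    (by rw [← RingHom.ker_eq_comap_bot]; exact hker)
  have hQj : Q.comap j = 𝔭 := by
    have e1 : Q.comap j = (Q.comap j').comap (algebraMap _ R') := by
      rw [Ideal.comap_comap]
      exact congrArg (fun φ => Ideal.comap φ Q) (IsLocalization.lift_comp hunit).symm
    rw [e1, show Q.comap j' = P' from hQc.2]
    exact IsLocalization.comap_map_of_isPrime_disjoint M R' inferInstance hdisj
  refine ⟨Q, ?_, hQj⟩
  haveI := hQc.1
  apply Ideal.isMaximal_of_isIntegral_of_isMaximal_comap (R := O) Q
  have e2 : (Q.comap (algebraMap O C)).comap (algebraMap Γ(Y, V) O) = (hV.primeIdealOf ⟨y, hy⟩).asIdeal := by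
    rw [← hcomap, ← hQj, Ideal.comap_comap, Ideal.comap_comap]
    exact congrArg (fun φ => Ideal.comap φ Q) (RingHom.ext fun s => Subtype.ext (RingHom.congr_fun hcompat s).symm)
  have e3 : Q.comap (algebraMap O C) = IsLocalRing.maximalIdeal O := by
    rw [← IsLocalization.AtPrime.map_eq_maximalIdeal (hV.primeIdealOf ⟨y, hy⟩).asIdeal O, ← e2,
      IsLocalization.map_comap (hV.primeIdealOf ⟨y, hy⟩).asIdeal.primeCompl O]
  rw [e3]
  exact IsLocalRing.maximalIdeal.isMaximal O

/-- The points of the Stein factor over `y` inject into the maximal ideals of the integral closure. -/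
theorem exists_injective_to_maximalSpectrum :
    ∃ φ : _root_.ConnectedComponents ↥(f.fiber y) → MaximalSpectrum (CohIII.integralClosureStalk f y h),
      Function.Injective φ := by
  classical
  obtain ⟨V, hV, hy⟩ : ∃ V : Y.Opens, IsAffineOpen V ∧ y ∈ V := by
    obtain ⟨_, ⟨V, hV, rfl⟩, hy, -⟩ :=
      Y.isBasis_affineOpens.exists_subset_of_mem_open (Set.mem_univ y) isOpen_univ
    exact ⟨V, hV, hy⟩
  let g := f.fromNormalization
  have hg : ∀ t : ↥(g.fiber y), g (g.fiberι y t) = y := fun t => by
    have : g.fiberι y t ∈ Set.range (g.fiberι y) := ⟨t, rfl⟩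
    rw [Scheme.Hom.range_fiberι] at this
    exact this
  let pt : ↥(g.fiber y) → ↥(g ⁻¹ᵁ V) := fun t => ⟨g.fiberι y t, by
    show g (g.fiberι y t) ∈ V
    rw [hg]; exact hy⟩
  choose Q hQmax hQ using fun t => exists_maximal_above f y h hV hy (pt t) (hg t)
  have hQinj : ∀ t t', Q t = Q t' → t = t' := fun t t' e => by
    have h3 : (hV.preimage g).primeIdealOf (pt t) = (hV.preimage g).primeIdealOf (pt t') :=
      PrimeSpectrum.ext (by rw [← hQ t, ← hQ t', e])
    have h4 := congrArg (hV.preimage g).fromSpec h3
    rw [(hV.preimage g).fromSpec_primeIdealOf, (hV.preimage g).fromSpec_primeIdealOf] at h4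
    exact (g.fiberι y).isEmbedding.injective h4
  obtain ⟨-, hdisc, -, hiff⟩ := stein_fibre f y
  haveI := hdisc
  let μ := CohIII.fiberMapOver f.toNormalization f f.fromNormalization f.toNormalization_fromNormalization y
  refine ⟨fun c => ⟨Q (μ.continuous.connectedComponentsLift c), hQmax _⟩, fun a b hab => ?_⟩
  obtain ⟨a, rfl⟩ := ConnectedComponents.surjective_coe a
  obtain ⟨b, rfl⟩ := ConnectedComponents.surjective_coe b
  exact ConnectedComponents.coe_eq_coe.2 ((hiff a b).1 (hQinj _ _ (congrArg MaximalSpectrum.asIdeal hab)))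

end Groth.L16.Connected
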